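import Groth.Agent.Lib.ParaFDesc27.PicDescent
import Mathlib.AlgebraicGeometry.Morphisms.Affine

/-!
# Descent of invertible modules along families
-/

set_option autoImplicit false
set_option linter.style.haveILetI false
set_option backward.isDefEq.respectTransparency false
set_option maxHeartbeats 1000000

universe u v

open CategoryTheory CategoryTheory.Limits AlgebraicGeometry TopologicalSpace

noncomputable section

namespace Groth.Agent.ParaFDesc27

open M1 ModLimH13

/-- Generators descend at the points of the image. -/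
theorem isGen_stalk_of_pullback {S S' : Scheme.{u}} (g : S' ⟶ S) [Flat g] {M : S.Modules}
    (hM : PicF.IsInvertible M) {D : S.Opens} {s : Γ(M, D)}
    (h : Twist.IsGen ((Scheme.Modules.pullback g).obj M) (g ⁻¹ᵁ D) (M2.pullSec g M s)) (y : S') (hy : g y ∈ D) :
    Function.Bijective fun c : S.presheaf.stalk (g y) =>
      c • (M.presheaf.germ D (g y) hy s : M.presheaf.stalk (g y)) := by
  obtain ⟨E, e, hxE, he⟩ := ProjUP.exists_isGen_of_invertible hM (g y)
  let Z := D ⊓ E
  obtain ⟨a, ha⟩ := (he Z inf_le_right).2 (mres M (inf_le_left : Z ≤ D) s)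
  dsimp only at ha
  let G := (Scheme.Modules.pullback g).obj M
  let e' := mres G (g.preimage_mono (inf_le_right : Z ≤ E)) (M2.pullSec g M e)
  let s' := mres G (g.preimage_mono (inf_le_left : Z ≤ D)) (M2.pullSec g M s)
  have hs : s' = g.app Z a • e' := by
    show mres G _ (M2.pullSec g M s) = g.app Z a • mres G _ (M2.pullSec g M e)
    rw [← show M2.pullSec g M (mres M (inf_le_left : Z ≤ D) s) = mres G (g.preimage_mono inf_le_left) (M2.pullSec g M s)
      from app_mres _ _ s, ← ha, M2.pullSec_smul,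
      show M2.pullSec g M (mres M (inf_le_right : Z ≤ E) e) = mres G (g.preimage_mono inf_le_right) (M2.pullSec g M e)
      from app_mres _ _ e]
  have hau : IsUnit (g.app Z a) := by
    obtain ⟨b, hb⟩ := (h (g ⁻¹ᵁ Z) (g.preimage_mono inf_le_left)).2 e'
    change b • s' = e' at hb
    refine IsUnit.of_mul_eq_one b ((he.pullback g (g ⁻¹ᵁ Z) (g.preimage_mono inf_le_right)).1 ?_)
    show (g.app Z a * b) • e' = (1 : Γ(S', g ⁻¹ᵁ Z)) • e'
    rw [mul_comm, mul_smul, ← hs, hb, one_smul]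
  have hyW : y ∈ g ⁻¹ᵁ S.basicOpen a := by
    rw [Scheme.preimage_basicOpen, Scheme.basicOpen_of_isUnit _ hau]
    exact ⟨hy, hxE⟩
  let W := S.basicOpen a
  have hW : W ≤ Z := S.basicOpen_le a
  have hu : IsUnit (S.presheaf.map (homOfLE hW).op a) := S.toRingedSpace.isUnit_res_basicOpen a
  have hgen : Twist.IsGen M W (mres M (hW.trans inf_le_left : W ≤ D) s) := by
    intro V hV
    rw [← mres_mres M (inf_le_left : Z ≤ D) hW, ← ha, mres_smul, mres_mres, mres_smul, mres_mres]
    simp only [smul_smul]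
    exact (he V _).comp (hu.map (S.presheaf.map (homOfLE hV).op).hom).unit.mulRight.bijective
  have := hgen.stalk hyW
  rwa [germ_mres] at this

/-- Invertibility descends along jointly surjective families of flat open maps. -/
theorem isInvertible_of_pullback_family {S : Scheme.{u}} {ι : Type v} {S' : ι → Scheme.{u}}
    (g : ∀ a, S' a ⟶ S) [∀ a, Flat (g a)] (ho : ∀ a, IsOpenMap (g a)) (hcov : ∀ x, ∃ a y, g a y = x)
    {N : S.Modules} (hN : Coh.IsQCoh N) (h : ∀ a, PicF.IsInvertible ((Scheme.Modules.pullback (g a)).obj N)) :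
    PicF.IsInvertible N := by
  refine ParaF27.isInvertible_of_cover (fun W : {W : S.Opens // IsAffineOpen W} => W.1.ι) (fun x => ?_) fun W => ?_
  · obtain ⟨W, hW, hxW, -⟩ := Opens.isBasis_iff_nbhd.1 S.isBasis_affineOpens (show x ∈ (⊤ : S.Opens) from trivial)
    exact ⟨⟨W, hW⟩, by rw [Scheme.Opens.opensRange_ι]; exact hxW⟩
  obtain ⟨W, hW⟩ := W
  have hp : ∀ x : W, ∃ (a : ι) (V : (S' a).Opens) (y : V), IsAffineOpen V ∧ V ≤ g a ⁻¹ᵁ W ∧ g a y = x.1 := fun x => by
    obtain ⟨a, y, hy⟩ := hcov x.1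
    obtain ⟨V, hV, hyV, hle⟩ := Opens.isBasis_iff_nbhd.1 (S' a).isBasis_affineOpens
      (show y ∈ g a ⁻¹ᵁ W from show g a y ∈ W by rw [hy]; exact x.2)
    exact ⟨a, V, ⟨y, hyV⟩, hV, hle, hy⟩
  choose a V y hV hle hy using hp
  obtain ⟨t, ht⟩ := hW.isCompact.elim_finite_subcover (fun x : W => g (a x) '' (V x : Set (S' (a x))))
    (fun x => ho _ _ (V x).2) fun z hz => Set.mem_iUnion.2 ⟨⟨z, hz⟩, ⟨_, (y ⟨z, hz⟩).2, hy ⟨z, hz⟩⟩⟩
  let P : t → Scheme.{u} := fun x => (V x.1 : Scheme.{u})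
  let π : ∀ x : t, P x ⟶ (W : Scheme.{u}) := fun x => (S' (a x.1)).homOfLE (hle x.1) ≫ g (a x.1) ∣_ W
  have hπ : ∀ x : t, π x ≫ W.ι = (V x.1).ι ≫ g (a x.1) := fun x => by
    simp [π, morphismRestrict_ι]
  haveI : ∀ x : t, IsAffine (P x) := fun x => hV x.1
  haveI : IsAffine (W : Scheme.{u}) := hW
  haveI : Surjective (Sigma.desc π) := ⟨fun z => by
    obtain ⟨x, hx, w, hw, hwz⟩ := Set.mem_iUnion₂.1 (ht (z.2 : z.1 ∈ (W : Set S)))
    refine ⟨Sigma.ι P ⟨x, hx⟩ ⟨w, hw⟩, W.ι.isOpenEmbedding.injective ?_⟩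
    rw [← Scheme.Hom.comp_apply, ← Scheme.Hom.comp_apply, Sigma.ι_desc_assoc, hπ]
    exact hwz⟩
  haveI : Flat (Sigma.desc π) := IsZariskiLocalAtSource.sigmaDesc fun x => inferInstance
  haveI : QuasiCompact (Sigma.desc π) := inferInstance
  have hqW : Coh.IsQCoh (N.restrict W.ι) := M1.isQCoh_restrict hN W.ι
  refine isInvertible_of_pullback (Sigma.desc π) hqW ?_
  refine ParaF27.isInvertible_of_cover (Sigma.ι P) (fun z => ?_) fun x => ?_
  · obtain ⟨x, w, hw⟩ := (sigmaOpenCover P).exists_eq z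
    exact ⟨x, w, hw⟩
  refine Twist.isInvertible_of_iso ?_ (Twist.isInvertible_pullback (V x.1).ι (h (a x.1)))
  exact (Scheme.Modules.pullbackComp (V x.1).ι (g (a x.1))).app N ≪≫
    (Scheme.Modules.pullbackCongr (hπ x).symm).app N ≪≫
    ((Scheme.Modules.pullbackComp (π x) W.ι).app N).symm ≪≫
    (Scheme.Modules.pullbackCongr (Sigma.ι_desc π x).symm).app _ ≪≫
    ((Scheme.Modules.pullbackComp (Sigma.ι P x) (Sigma.desc π)).app _).symm ≪≫
    (Scheme.Modules.pullback (Sigma.ι P x)).mapIso ((Scheme.Modules.pullback (Sigma.desc π)).mapIso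
      ((Scheme.Modules.restrictFunctorIsoPullback W.ι).app N).symm) ≪≫
    ((Scheme.Modules.restrictFunctorIsoPullback (Sigma.ι P x)).app _).symm

variable {S T : Scheme.{u}} (p : T ⟶ S) [QuasiCompact p] [QuasiSeparated p]

/-- Descent of invertible modules from the base along jointly surjective families of flat open maps. -/
theorem exists_descent_family (hp : ∀ V : S.Opens, Function.Bijective (p.app V)) {ι : Type v} {S' T' : ι → Scheme.{u}}
    (g : ∀ a, S' a ⟶ S) [∀ a, Flat (g a)] (ho : ∀ a, IsOpenMap (g a)) (hcov : ∀ x, ∃ a y, g a y = x)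
    {q : ∀ a, T' a ⟶ S' a} {r : ∀ a, T' a ⟶ T} (hsq : ∀ a, IsPullback (r a) (q a) p (g a)) {L : T.Modules}
    (hL : PicF.IsInvertible L)
    (he : ∀ a, ∃ N' : (S' a).Modules, PicF.IsInvertible N' ∧
      Nonempty ((Scheme.Modules.pullback (r a)).obj L ≅ (Scheme.Modules.pullback (q a)).obj N')) :
    ∃ N : S.Modules, PicF.IsInvertible N ∧ Nonempty (L ≅ (Scheme.Modules.pullback p).obj N) := by
  choose N' hN' he using he
  replace he := fun a => (he a).some
  haveI : Coh.IsQCoh L := Twist.isQCoh_of_isInvertible hL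
  have hq : ∀ a, ∀ W, Function.Bijective ((q a).app W) := fun a => bijective_app_baseChange (g a) p (hsq a) hp
  haveI := fun a => isIso_bc0_of_flat (hsq a) L
  haveI := fun a => isIso_unit_of_fibration (q a) (hq a) (hN' a)
  let N := (Scheme.Modules.pushforward p).obj L
  let ψ := fun a => asIso (CohBC.bc0 p (g a) (q a) (r a) (hsq a).w L)
  let ε : ∀ a, (Scheme.Modules.pullback (g a)).obj N ≅ N' a := fun a => ψ a ≪≫ (Scheme.Modules.pushforward (q a)).mapIso (he a) ≪≫
    (asIso ((Scheme.Modules.pullbackPushforwardAdjunction (q a)).unit.app (N' a))).symm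
  have hN : PicF.IsInvertible N :=
    isInvertible_of_pullback_family g ho hcov (isQCoh_push p inferInstance) fun a =>
      Twist.isInvertible_of_iso (ε a).symm (hN' a)
  let η := ((Scheme.Modules.pullbackPushforwardAdjunction p).homEquiv N L).symm (𝟙 N)
  haveI : IsIso η := by
    refine isIso_of_gens η fun x₀ => ?_
    obtain ⟨D, σ, hxD, hσ⟩ := ProjUP.exists_isGen_of_invertible hN (p x₀)
    refine ⟨p ⁻¹ᵁ D, M2.pullSec p N σ, hxD, hσ.pullback p, ?_⟩
    have happ : η.app (p ⁻¹ᵁ D) (M2.pullSec p N σ) = σ :=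
      congrArg (fun φ => φ.app D σ) (((Scheme.Modules.pullbackPushforwardAdjunction p).homEquiv_unit _ _ η).symm.trans
        (Equiv.apply_symm_apply _ _))
    rw [happ]
    refine Twist.isGen_of_stalk fun x hx => ?_
    obtain ⟨a, y, hy⟩ := hcov (p x)
    obtain ⟨z, hz, -⟩ := Scheme.exists_preimage_of_isPullback (hsq a) x y hy.symm
    subst hz
    haveI : Flat (r a) := MorphismProperty.of_isPullback (hsq a).flip inferInstance
    refine isGen_stalk_of_pullback (r a) hL ?_ z hx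
    have eD : q a ⁻¹ᵁ (g a ⁻¹ᵁ D) = r a ⁻¹ᵁ (p ⁻¹ᵁ D) := by
      ext z
      show g a (q a z) ∈ D ↔ p (r a z) ∈ D
      rw [← Scheme.Hom.comp_apply, ← Scheme.Hom.comp_apply, (hsq a).w]
    have h1 := isGen_map_iso (ψ a) (hσ.pullback (g a))
    have e1 : (ψ a).hom.app (g a ⁻¹ᵁ D) (M2.pullSec (g a) N σ) = res' (r a) L eD.le σ := by
      have := bc0_res' (hsq a).w L (le_refl (g a ⁻¹ᵁ D)) σ eD.le
      rwa [res', mres_id] at this
    rw [e1] at h1
    have h2 := (isGen_of_isGen_push (q a) (hq a) (hN' a) (he a).symm h1).mres eD.ge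
    erw [mres_mres, mres_id] at h2
    exact h2
  exact ⟨N, hN, ⟨(asIso η).symm⟩⟩

end Groth.Agent.ParaFDesc27
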