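import Groth.Agent.Lib.ParaFDesc27.BaseChange
import Groth.Agent.Lib.ModM1.Push
import Groth.Prelude.Def_CohBC2

/-!
# Flat base change in degree zero along quasi-compact quasi-separated morphisms
-/

set_option autoImplicit false
set_option linter.style.haveILetI false
set_option linter.unusedSectionVars false
set_option backward.isDefEq.respectTransparency false
set_option backward.isDefEq.respectTransparency.types false
set_option maxHeartbeats 1000000

universe u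

open AlgebraicGeometry CategoryTheory Limits TensorProduct TopologicalSpace

noncomputable section

namespace Groth.Agent.ParaFDesc27

open ModLimH13 QcohDesc12

theorem isIso_of_basis {T : Scheme.{u}} {M N : T.Modules} (φ : M ⟶ N) (P : T.Opens → Prop)
    (hP : ∀ (O : T.Opens), ∀ z ∈ O, ∃ W, P W ∧ z ∈ W ∧ W ≤ O) (h : ∀ W, P W → Function.Bijective (φ.app W)) :
    IsIso φ := by
  have inj : ∀ O : T.Opens, Function.Injective (φ.app O) := fun O s t hst => by
    choose W hW hzW hle using fun z : O => hP O z z.2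
    refine M1.modules_eq_of_locally_eq M O W hle (fun z hz => Opens.mem_iSup.2 ⟨⟨z, hz⟩, hzW _⟩) s t fun z =>
      (h _ (hW z)).1 ?_
    rw [M1.app_mres, M1.app_mres, hst]
  refine Scheme.Modules.Hom.isIso_iff_isIso_app.2 fun O => (ConcreteCategory.isIso_iff_bijective _).2 ⟨inj O, fun t => ?_⟩
  choose W hW hzW hle using fun z : O => hP O z z.2
  have hcov : O ≤ ⨆ z, W z := fun z hz => Opens.mem_iSup.2 ⟨⟨z, hz⟩, hzW _⟩
  choose y hy using fun z => (h _ (hW z)).2 (M1.mres N (hle z) t)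
  obtain ⟨x, hx, -⟩ := TopCat.Sheaf.existsUnique_gluing' ⟨_, M.isSheaf⟩ W O (fun z => homOfLE (hle z)) hcov y
    fun z z' => by
      refine inj _ ?_
      show φ.app _ (M1.mres M inf_le_left (y z)) = φ.app _ (M1.mres M inf_le_right (y z'))
      rw [M1.app_mres, M1.app_mres, hy, hy, M1.mres_mres, M1.mres_mres]
  let x' : Γ(M, O) := x
  refine ⟨x', M1.modules_eq_of_locally_eq N O W hle hcov _ _ fun z => ?_⟩
  rw [← M1.app_mres, ← hy z]
  exact congrArg _ (hx z)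

section Sections

variable {S Xk Y Z : Scheme.{u}} {fk : Xk ⟶ S} {h : Y ⟶ S} {a : Z ⟶ Xk} {g : Z ⟶ Y}
  (H : IsPullback a g fk h) {U : S.Opens} (hU : IsAffineOpen U) {W : Xk.Opens} (hW : IsAffineOpen W)
  (eW : W ≤ fk ⁻¹ᵁ U) (F : Y.Modules)

include hU hW in
theorem bsec_bijective_of_le_affine [Flat fk] [Coh.IsQCoh F] {W₀ : Y.Opens} (hW₀ : IsAffineOpen W₀)
    (hW₀U : W₀ ≤ h ⁻¹ᵁ U) (V : {V : Y.Opens // V ≤ h ⁻¹ᵁ U}) (hV : V.1 ≤ W₀) (hc : IsCompact (V.1 : Set Y)) :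
    Function.Bijective (bsec H eW F V) := by
  have hb : ∀ y : V.1, ∃ r : Γ(Y, W₀), Y.basicOpen r ≤ V.1 ∧ (y : Y) ∈ Y.basicOpen r := fun y =>
    hW₀.exists_basicOpen_le y (hV y.2)
  choose r hr hyr using hb
  obtain ⟨t, ht⟩ := hc.elim_finite_subcover (fun y => (Y.basicOpen (r y) : Set Y)) (fun y => (Y.basicOpen (r y)).2)
    fun y hy => Set.mem_iUnion.2 ⟨⟨y, hy⟩, hyr ⟨y, hy⟩⟩
  refine bsec_bijective_glue H eW F hU hW V
    (fun y : t => ⟨Y.basicOpen (r y.1), (hr y.1).trans V.2⟩) (fun y => hr y.1) (fun x hx => ?_)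
    (fun y => bsec_bijective_affine H hU hW eW F _ (hW₀.basicOpen _)) fun y y' => ?_
  · obtain ⟨y, hy, hxy⟩ := Set.mem_iUnion₂.1 (ht hx)
    exact Opens.mem_iSup.2 ⟨⟨y, hy⟩, hxy⟩
  · refine (bsec_bijective_affine H hU hW eW F _ ?_).1
    show IsAffineOpen (Y.basicOpen (r y.1) ⊓ Y.basicOpen (r y'.1))
    rw [← Scheme.basicOpen_mul]
    exact hW₀.basicOpen _

include hU hW in
theorem bsec_bijective_of_isCompact [Flat fk] [QuasiSeparated h] [Coh.IsQCoh F]
    (V : {V : Y.Opens // V ≤ h ⁻¹ᵁ U}) (hc : IsCompact (V.1 : Set Y)) :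
    Function.Bijective (bsec H eW F V) := by
  have hb : ∀ y : V.1, ∃ A : Y.Opens, IsAffineOpen A ∧ (y : Y) ∈ A ∧ A ≤ V.1 := fun y => by
    obtain ⟨A, hA, hyA, hle⟩ := Opens.isBasis_iff_nbhd.1 Y.isBasis_affineOpens y.2
    exact ⟨A, hA, hyA, hle⟩
  choose A hA hyA hAle using hb
  obtain ⟨t, ht⟩ := hc.elim_finite_subcover (fun y => (A y : Set Y)) (fun y => (A y).2)
    fun y hy => Set.mem_iUnion.2 ⟨⟨y, hy⟩, hyA ⟨y, hy⟩⟩
  refine bsec_bijective_glue H eW F hU hW V (fun y : t => ⟨A y.1, (hAle y.1).trans V.2⟩) (fun y => hAle y.1)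
    (fun x hx => ?_) (fun y => bsec_bijective_affine H hU hW eW F _ (hA _)) fun y y' => ?_
  · obtain ⟨y, hy, hxy⟩ := Set.mem_iUnion₂.1 (ht hx)
    exact Opens.mem_iSup.2 ⟨⟨y, hy⟩, hxy⟩
  · refine (bsec_bijective_of_le_affine H hU hW eW F (hA y.1) ((hAle y.1).trans V.2) _ inf_le_left ?_).1
    exact (h.isQuasiSeparated_preimage hU.isQuasiSeparated) _ _ ((hAle y.1).trans V.2) (A y.1).2 (hA y.1).isCompact
      ((hAle y'.1).trans V.2) (A y'.1).2 (hA y'.1).isCompact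

end Sections

variable {X S X' S' : Scheme.{u}} {f : X ⟶ S} {g : S' ⟶ S} {f' : X' ⟶ S'} {g' : X' ⟶ X}

theorem bc0_res' (w : g' ≫ f = f' ≫ g) (F : X.Modules) {V : S.Opens} {W : S'.Opens} (eW : W ≤ g ⁻¹ᵁ V)
    (s : Γ((Scheme.Modules.pushforward f).obj F, V)) (e : f' ⁻¹ᵁ W ≤ g' ⁻¹ᵁ (f ⁻¹ᵁ V)) :
    (CohBC.bc0 f g f' g' w F).app W (res' g ((Scheme.Modules.pushforward f).obj F) eW s) =
      res' g' F e (show Γ(F, f ⁻¹ᵁ V) from s) := by
  refine (M1.app_mres (CohBC.bc0 f g f' g' w F) eW (M2.pullSec g _ s)).trans ?_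
  have h : (CohBC.bc0 f g f' g' w F).app (g ⁻¹ᵁ V) (M2.pullSec g _ s) = (CohBC.bc0Adj f g f' g' w F).app V s :=
    congrArg (fun ψ => ψ.app V s)
      (((Scheme.Modules.pullbackPushforwardAdjunction g).homEquiv_unit _ _ _).symm.trans
        (Equiv.apply_symm_apply ((Scheme.Modules.pullbackPushforwardAdjunction g).homEquiv _ _)
          (CohBC.bc0Adj f g f' g' w F)))
  refine (congrArg (M1.mres _ eW) h).trans ?_
  exact M1.mres_mres ((Scheme.Modules.pullback g').obj F) _ (f'.preimage_mono eW)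
    (M2.pullSec g' F (show Γ(F, f ⁻¹ᵁ V) from s))

/-- Degree zero base change along a flat morphism is an isomorphism. -/
theorem isIso_bc0_of_flat [QuasiSeparated f] [QuasiCompact f] [Flat g] (hsq : IsPullback g' f' f g) (F : X.Modules)
    [hF : Coh.IsQCoh F] : IsIso (CohBC.bc0 f g f' g' hsq.w F) := by
  haveI : Coh.IsQCoh ((Scheme.Modules.pushforward f).obj F) := M1.isQCoh_push f hF
  refine isIso_of_basis _ (fun W : S'.Opens => IsAffineOpen W ∧ ∃ V : S.Opens, IsAffineOpen V ∧ W ≤ g ⁻¹ᵁ V)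
    (fun O z hz => ?_) ?_
  · obtain ⟨V, hV, hzV, -⟩ := Opens.isBasis_iff_nbhd.1 S.isBasis_affineOpens (show g z ∈ (⊤ : S.Opens) from trivial)
    obtain ⟨W, hW, hzW, hWle⟩ := Opens.isBasis_iff_nbhd.1 S'.isBasis_affineOpens
      (show z ∈ (O : S'.Opens) ⊓ g ⁻¹ᵁ V from ⟨hz, hzV⟩)
    exact ⟨W, ⟨hW, V, hV, hWle.trans inf_le_right⟩, hzW, hWle.trans inf_le_left⟩
  rintro W ⟨hW, V, hV, eW⟩
  let N := (Scheme.Modules.pushforward f).obj F
  obtain ⟨Φ, hΦ⟩ := exists_pullEquiv g N eW hV hW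
  letI : Algebra Γ(S, V) Γ(S', W) := coeffAlg eW
  let V₀ : {O : X.Opens // O ≤ f ⁻¹ᵁ V} := ⟨f ⁻¹ᵁ V, le_rfl⟩
  have hb := bsec_bijective_of_isCompact hsq.flip hV hW eW F V₀
    (QuasiCompact.isCompact_preimage _ V.2 hV.isCompact)
  have eZ : f' ⁻¹ᵁ W ≤ g' ⁻¹ᵁ (f ⁻¹ᵁ V) := fun x hx => by
    show f (g' x) ∈ V
    rw [← Scheme.Hom.comp_apply, hsq.w, Scheme.Hom.comp_apply]
    exact eW hx
  have hZ : f' ⁻¹ᵁ W ⊓ g' ⁻¹ᵁ (f ⁻¹ᵁ V) = f' ⁻¹ᵁ W := inf_eq_left.2 eZ
  let G := (Scheme.Modules.pullback g').obj F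
  let e : Γ(S', W) ⊗[Γ(S, V)] Sec V f F V₀ ≃ₗ[Γ(S, V)] Γ(S', W) ⊗[Γ(S, V)] Γ(N, V) :=
    (LinearEquiv.lTensor _ ({ toFun := fun s => (Sec.val F s : Γ(N, V))
                              invFun := fun s => s
                              left_inv := fun _ => rfl
                              right_inv := fun _ => rfl
                              map_add' := fun _ _ => rfl
                              map_smul' := fun r s => by
                                show f.appLE V (f ⁻¹ᵁ V) le_rfl r • (Sec.val F s) = f.app V r • (Sec.val F s)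
                                rw [Scheme.Hom.app_eq_appLE] } : Sec V f F V₀ ≃ₗ[Γ(S, V)] Γ(N, V)))
  have hr : Function.Bijective (M1.mres G hZ.ge) := ⟨fun s t hst => by
    have := congrArg (M1.mres G hZ.le) hst
    rwa [M1.mres_mres, M1.mres_mres, M1.mres_id, M1.mres_id] at this,
    fun t => ⟨M1.mres G hZ.le t, by rw [M1.mres_mres, M1.mres_id]⟩⟩
  refine (Function.Bijective.of_comp_iff _ (Φ.bijective.comp e.bijective)).1 ?_
  suffices key : ∀ z, (CohBC.bc0 f g f' g' hsq.w F).app W (Φ (e z)) =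
      M1.mres G hZ.ge (bsec hsq.flip eW F V₀ z) from
    (congrArg Function.Bijective (funext key)).mpr (hr.comp hb)
  intro z
  induction z using TensorProduct.induction_on with
  | zero => simp only [map_zero]
  | add x y hx hy => simp only [map_add, hx, hy]
  | tmul c s =>
    rw [bsec_tmul, M1.mres_smul, mres_res']
    show (CohBC.bc0 f g f' g' hsq.w F).app W (Φ (c ⊗ₜ (Sec.val F s : Γ(N, V)))) = _
    rw [hΦ, Scheme.Modules.Hom.app_smul, bc0_res' hsq.w F eW _ eZ]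
    show f'.app W c • (res' g' F eZ (Sec.val F s) : Γ(G, f' ⁻¹ᵁ W)) = _
    rw [← CommRingCat.comp_apply, Scheme.Hom.appLE_map, Scheme.Hom.app_eq_appLE]

end Groth.Agent.ParaFDesc27
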