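import Groth.Agent.Lib.ParaFDesc27.Descent
import Groth.Prelude.Def_Formal2

/-!
# Invertible modules along fibrations, and their fpqc descent
-/

set_option autoImplicit false
set_option linter.style.haveILetI false
set_option linter.unusedSectionVars false
set_option backward.isDefEq.respectTransparency false
set_option maxHeartbeats 1000000

universe u

open CategoryTheory CategoryTheory.Limits AlgebraicGeometry TopologicalSpace

noncomputable section

namespace Groth.Agent.ParaFDesc27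

open M1 ModLimH13

variable {X Y : Scheme.{u}}

theorem isGen_map_iso {M N : X.Modules} (e : M ≅ N) {U : X.Opens} {g : Γ(M, U)} (hg : Twist.IsGen M U g) :
    Twist.IsGen N U (e.hom.app U g) := fun V hV => by
  have : (fun r : Γ(X, V) => r • mres N hV (e.hom.app U g)) = (e.hom.app V) ∘ fun r => r • mres M hV g := by
    funext r
    rw [Function.comp_apply, Scheme.Modules.Hom.app_smul, app_mres]
  rw [this]
  exact ((ConcreteCategory.isIso_iff_bijective _).1
    (Scheme.Modules.Hom.isIso_iff_isIso_app.1 inferInstance V)).comp (hg V hV)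

theorem isGen_one : Twist.IsGen (Coh.structureModule X) ⊤ (one ⊤) := fun V hV => by
  rw [mres_one]
  convert Function.bijective_id using 1
  funext r
  exact mul_one r

/-- A morphism taking generators to generators is an isomorphism. -/
theorem isIso_of_gens {M N : X.Modules} (φ : M ⟶ N)
    (h : ∀ x : X, ∃ (D : X.Opens) (g : Γ(M, D)), x ∈ D ∧ Twist.IsGen M D g ∧ Twist.IsGen N D (φ.app D g)) :
    IsIso φ := by
  choose D g hxD hg hg' using h
  refine isIso_of_basis φ (fun W => ∃ x, W ≤ D x)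
    (fun O z hz => ⟨O ⊓ D z, ⟨z, inf_le_right⟩, ⟨hz, hxD z⟩, inf_le_left⟩) ?_
  rintro W ⟨x, hW⟩
  refine (Function.Bijective.of_comp_iff _ (hg x W hW)).1 ?_
  have : (φ.app W) ∘ (fun r : Γ(X, W) => r • mres M hW (g x)) = fun r => r • mres N hW (φ.app (D x) (g x)) := by
    funext r
    rw [Function.comp_apply, Scheme.Modules.Hom.app_smul, app_mres]
  rw [this]
  exact hg' x W hW

variable (f : X ⟶ Y)

/-- Direct images of generators along a fibration. -/
theorem isGen_push_pullSec (hf : ∀ V : Y.Opens, Function.Bijective (f.app V)) {N : Y.Modules} {D : Y.Opens}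
    {n : Γ(N, D)} (hn : Twist.IsGen N D n) :
    Twist.IsGen ((Scheme.Modules.pushforward f).obj ((Scheme.Modules.pullback f).obj N)) D
      (M2.pullSec f N n) := fun V hV =>
  ((hn.pullback f) (f ⁻¹ᵁ V) (f.preimage_mono hV)).comp (hf V)

/-- Along a fibration the unit is an isomorphism on invertible modules. -/
theorem isIso_unit_of_fibration (hf : ∀ V : Y.Opens, Function.Bijective (f.app V)) {N : Y.Modules}
    (hN : PicF.IsInvertible N) :
    IsIso ((Scheme.Modules.pullbackPushforwardAdjunction f).unit.app N) := by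
  refine isIso_of_gens _ fun y => ?_
  obtain ⟨D, n, hy, hn⟩ := ProjUP.exists_isGen_of_invertible hN y
  exact ⟨D, n, hy, hn, isGen_push_pullSec f hf hn⟩

theorem nonempty_iso_of_pullback_iso (hf : ∀ V : Y.Opens, Function.Bijective (f.app V)) {N N' : Y.Modules}
    (hN : PicF.IsInvertible N) (hN' : PicF.IsInvertible N')
    (e : (Scheme.Modules.pullback f).obj N ≅ (Scheme.Modules.pullback f).obj N') : Nonempty (N ≅ N') := by
  have := isIso_unit_of_fibration f hf hN
  have := isIso_unit_of_fibration f hf hN'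
  exact ⟨asIso ((Scheme.Modules.pullbackPushforwardAdjunction f).unit.app N) ≪≫
    (Scheme.Modules.pushforward f).mapIso e ≪≫
    (asIso ((Scheme.Modules.pullbackPushforwardAdjunction f).unit.app N')).symm⟩

theorem picPullbackInjective_of_fibration (hf : ∀ V : Y.Opens, Function.Bijective (f.app V)) :
    Formal2.PicPullbackInjective f := fun L hL ⟨e⟩ =>
  nonempty_iso_of_pullback_iso f hf hL (PicLoc.isInvertible_structureModule _)
    (e ≪≫ (Twist.pullbackUnitIso f).symm)

/-- Generators of direct images along a fibration are generators. -/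
theorem isGen_of_isGen_push (hf : ∀ V : Y.Opens, Function.Bijective (f.app V)) {M : X.Modules} {N : Y.Modules}
    (hN : PicF.IsInvertible N) (e : (Scheme.Modules.pullback f).obj N ≅ M) {W : Y.Opens}
    {t : Γ((Scheme.Modules.pushforward f).obj M, W)} (ht : Twist.IsGen ((Scheme.Modules.pushforward f).obj M) W t) :
    Twist.IsGen M (f ⁻¹ᵁ W) t := by
  refine Twist.isGen_of_stalk fun x hx => ?_
  obtain ⟨D, n, hxD, hn⟩ := ProjUP.exists_isGen_of_invertible hN (f x)
  let Z := W ⊓ D
  let u := M2.pullSec f N n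
  have hu : Twist.IsGen ((Scheme.Modules.pushforward f).obj M) D (e.hom.app (f ⁻¹ᵁ D) u) :=
    isGen_map_iso ((Scheme.Modules.pushforward f).mapIso e) (isGen_push_pullSec f hf hn)
  have hv : Twist.IsGen M (f ⁻¹ᵁ D) (e.hom.app (f ⁻¹ᵁ D) u) := isGen_map_iso e (hn.pullback f)
  let P := (Scheme.Modules.pushforward f).obj M
  obtain ⟨a, ha⟩ := (hu Z inf_le_right).2 (mres P (inf_le_left : Z ≤ W) t)
  obtain ⟨b, hb⟩ := (ht Z inf_le_left).2 (mres P (inf_le_right : Z ≤ D) (e.hom.app (f ⁻¹ᵁ D) u))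
  dsimp only at ha hb
  have hab : a * b = 1 := (ht Z inf_le_left).1 (by
    show (a * b) • mres P (inf_le_left : Z ≤ W) t = (1 : Γ(Y, Z)) • mres P (inf_le_left : Z ≤ W) t
    rw [one_smul, mul_smul, hb, ha])
  have hx' : x ∈ f ⁻¹ᵁ Z := ⟨hx, hxD⟩
  have hgen : Twist.IsGen M (f ⁻¹ᵁ Z) (mres M (f.preimage_mono (inf_le_left : Z ≤ W)) t) := by
    intro V hV
    have hA : IsUnit (X.presheaf.map (homOfLE hV).op (f.app Z a)) :=
      (((IsUnit.of_mul_eq_one b hab).map (f.app Z).hom).map (X.presheaf.map (homOfLE hV).op).hom)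
    have he : mres M (f.preimage_mono (inf_le_left : Z ≤ W)) t =
        f.app Z a • mres M (f.preimage_mono (inf_le_right : Z ≤ D)) (e.hom.app (f ⁻¹ᵁ D) u) := ha.symm
    rw [he, mres_smul, mres_mres]
    simp only [smul_smul]
    exact (hv V _).comp hA.unit.mulRight.bijective
  have h := hgen.stalk hx'
  rwa [germ_mres] at h

section Descent

variable {S S' : Scheme.{u}} (g : S' ⟶ S)

/-- Generators descend along surjective morphisms. -/
theorem isGen_of_pullback [Surjective g] {M : S.Modules} (hM : PicF.IsInvertible M) {D : S.Opens} {s : Γ(M, D)}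
    (h : Twist.IsGen ((Scheme.Modules.pullback g).obj M) (g ⁻¹ᵁ D) (M2.pullSec g M s)) : Twist.IsGen M D s := by
  refine Twist.isGen_of_stalk fun x hx => ?_
  obtain ⟨E, e, hxE, he⟩ := ProjUP.exists_isGen_of_invertible hM x
  let Z := D ⊓ E
  obtain ⟨a, ha⟩ := (he Z inf_le_right).2 (mres M (inf_le_left : Z ≤ D) s)
  dsimp only at ha
  let G := (Scheme.Modules.pullback g).obj M
  let e' := mres G (g.preimage_mono (inf_le_right : Z ≤ E)) (M2.pullSec g M e)
  let s' := mres G (g.preimage_mono (inf_le_left : Z ≤ D)) (M2.pullSec g M s)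
  have hs : s' = g.app Z a • e' := by
    show mres G _ (M2.pullSec g M s) = g.app Z a • mres G _ (M2.pullSec g M e)
    rw [← show M2.pullSec g M (mres M (inf_le_left : Z ≤ D) s) = mres G (g.preimage_mono inf_le_left) (M2.pullSec g M s)
      from app_mres _ _ s, ← ha, M2.pullSec_smul,
      show M2.pullSec g M (mres M (inf_le_right : Z ≤ E) e) = mres G (g.preimage_mono inf_le_right) (M2.pullSec g M e)
      from app_mres _ _ e]
  have hau : IsUnit (g.app Z a) := by
    obtain ⟨b, hb⟩ := (h (g ⁻¹ᵁ Z) (g.preimage_mono inf_le_left)).2 e'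
    change b • s' = e' at hb
    refine IsUnit.of_mul_eq_one b ((he.pullback g (g ⁻¹ᵁ Z) (g.preimage_mono inf_le_right)).1 ?_)
    show (g.app Z a * b) • e' = (1 : Γ(S', g ⁻¹ᵁ Z)) • e'
    rw [mul_comm, mul_smul, ← hs, hb, one_smul]
  have hbo : S.basicOpen a = Z := by
    refine le_antisymm (S.basicOpen_le a) fun y hy => ?_
    obtain ⟨y', rfl⟩ := g.surjective y
    have h5 : g ⁻¹ᵁ S.basicOpen a = g ⁻¹ᵁ Z := by
      rw [Scheme.preimage_basicOpen, Scheme.basicOpen_of_isUnit _ hau]
    exact (show y' ∈ g ⁻¹ᵁ S.basicOpen a by rw [h5]; exact hy)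
  have hu : IsUnit a := RingedSpace.isUnit_of_isUnit_germ _ Z a fun y hy => by
    rw [← hbo] at hy
    exact ((S.mem_basicOpen a y (hbo ▸ hy)).1 hy)
  have hgen : Twist.IsGen M Z (mres M (inf_le_left : Z ≤ D) s) := by
    intro V hV
    rw [← ha, mres_smul, mres_mres]
    simp only [smul_smul]
    exact (he V _).comp (hu.map (S.presheaf.map (homOfLE hV).op).hom).unit.mulRight.bijective
  have := hgen.stalk (show x ∈ Z from ⟨hx, hxE⟩)
  rwa [germ_mres] at this

variable {T : Scheme.{u}} (p : T ⟶ S) [QuasiCompact p] [QuasiSeparated p] [Flat g]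

omit [QuasiCompact p] [QuasiSeparated p] in
theorem isGen_pushOne (hp : ∀ V : S.Opens, Function.Bijective (p.app V)) :
    Twist.IsGen ((Scheme.Modules.pushforward p).obj (Coh.structureModule T)) ⊤ (one (p ⁻¹ᵁ ⊤)) := fun V hV => by
  refine (congrArg Function.Bijective (funext fun r => ?_)).mpr (hp V)
  show (HSMul.hSMul (p.app V r : Γ(T, p ⁻¹ᵁ V))
    (M1.mres (Coh.structureModule T) (p.preimage_mono hV) (one (p ⁻¹ᵁ ⊤)) : Γ(T, p ⁻¹ᵁ V)) : Γ(T, p ⁻¹ᵁ V)) = p.app V r
  rw [mres_one]
  exact mul_one (M := Γ(T, p ⁻¹ᵁ V)) (p.app V r)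

/-- Fibrations are stable under flat base change. -/
theorem bijective_app_baseChange {T' : Scheme.{u}} {q : T' ⟶ S'} {r : T' ⟶ T} (hsq : IsPullback r q p g)
    (hp : ∀ V : S.Opens, Function.Bijective (p.app V)) (W : S'.Opens) : Function.Bijective (q.app W) := by
  let O := Coh.structureModule T
  haveI : Coh.IsQCoh O := Twist.isQCoh_of_isInvertible (PicLoc.isInvertible_structureModule _)
  haveI := isIso_bc0_of_flat hsq O
  let P := (Scheme.Modules.pushforward q).obj ((Scheme.Modules.pullback r).obj O)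
  have h1 : Twist.IsGen P (g ⁻¹ᵁ ⊤) ((CohBC.bc0 p g q r hsq.w O).app (g ⁻¹ᵁ ⊤) (M2.pullSec g _ (one (p ⁻¹ᵁ ⊤)))) :=
    isGen_map_iso (asIso (CohBC.bc0 p g q r hsq.w O)) ((isGen_pushOne p hp).pullback g)
  have hW : W ≤ g ⁻¹ᵁ ⊤ := fun _ _ => trivial
  have hT : q ⁻¹ᵁ W ≤ r ⁻¹ᵁ (p ⁻¹ᵁ (⊤ : S.Opens)) := fun _ _ => trivial
  have e1 : (CohBC.bc0 p g q r hsq.w O).app W (res' g _ hW (one (p ⁻¹ᵁ ⊤))) =
      res' r O hT (one (p ⁻¹ᵁ ⊤)) := bc0_res' hsq.w O hW _ hT
  have h2 := (h1.mres hW) W le_rfl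
  rw [mres_id, show mres P hW ((CohBC.bc0 p g q r hsq.w O).app (g ⁻¹ᵁ ⊤) (M2.pullSec g _ (one (p ⁻¹ᵁ ⊤)))) =
    (CohBC.bc0 p g q r hsq.w O).app W (res' g _ hW (one (p ⁻¹ᵁ ⊤))) from (app_mres _ hW _).symm, e1] at h2
  have hgen : Twist.IsGen ((Scheme.Modules.pullback r).obj O) (q ⁻¹ᵁ W)
      (res' r O hT (one (p ⁻¹ᵁ ⊤))) := by
    have h := ((isGen_one (X := T)).mres (le_top : p ⁻¹ᵁ (⊤ : S.Opens) ≤ ⊤)).pullback r
    rw [mres_one] at h
    exact h.mres hT
  have h3 := hgen (q ⁻¹ᵁ W) le_rfl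
  rw [mres_id] at h3
  refine (Function.Bijective.of_comp_iff' h3 _).1 ?_
  exact h2

/-- fpqc descent of invertible modules along a fibration. -/
theorem exists_descent [Surjective g] [QuasiCompact g] {T' : Scheme.{u}} {q : T' ⟶ S'} {r : T' ⟶ T}
    (hsq : IsPullback r q p g) (hp : ∀ V : S.Opens, Function.Bijective (p.app V)) {L : T.Modules}
    (hL : PicF.IsInvertible L) {N' : S'.Modules} (hN' : PicF.IsInvertible N')
    (e : (Scheme.Modules.pullback r).obj L ≅ (Scheme.Modules.pullback q).obj N') :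
    ∃ N : S.Modules, PicF.IsInvertible N ∧ Nonempty ((Scheme.Modules.pullback g).obj N ≅ N') ∧
      Nonempty (L ≅ (Scheme.Modules.pullback p).obj N) := by
  have hq := bijective_app_baseChange g p hsq hp
  haveI : Coh.IsQCoh L := Twist.isQCoh_of_isInvertible hL
  haveI := isIso_bc0_of_flat hsq L
  haveI := isIso_unit_of_fibration q hq hN'
  let N := (Scheme.Modules.pushforward p).obj L
  let ψ := asIso (CohBC.bc0 p g q r hsq.w L)
  let ε : (Scheme.Modules.pullback g).obj N ≅ N' := ψ ≪≫ (Scheme.Modules.pushforward q).mapIso e ≪≫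
    (asIso ((Scheme.Modules.pullbackPushforwardAdjunction q).unit.app N')).symm
  have hN : PicF.IsInvertible N :=
    isInvertible_of_pullback g (isQCoh_push p inferInstance) (Twist.isInvertible_of_iso ε.symm hN')
  haveI : Surjective r := MorphismProperty.of_isPullback hsq.flip ‹Surjective g›
  let η := ((Scheme.Modules.pullbackPushforwardAdjunction p).homEquiv N L).symm (𝟙 N)
  haveI : IsIso η := by
    refine isIso_of_gens η fun x => ?_
    obtain ⟨D, σ, hxD, hσ⟩ := ProjUP.exists_isGen_of_invertible hN (p x)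
    refine ⟨p ⁻¹ᵁ D, M2.pullSec p N σ, hxD, hσ.pullback p, ?_⟩
    have happ : η.app (p ⁻¹ᵁ D) (M2.pullSec p N σ) = σ :=
      congrArg (fun φ => φ.app D σ) (((Scheme.Modules.pullbackPushforwardAdjunction p).homEquiv_unit _ _ η).symm.trans
        (Equiv.apply_symm_apply _ _))
    rw [happ]
    refine isGen_of_pullback r hL ?_
    have eD : q ⁻¹ᵁ (g ⁻¹ᵁ D) = r ⁻¹ᵁ (p ⁻¹ᵁ D) := by
      ext z
      show g (q z) ∈ D ↔ p (r z) ∈ D
      rw [← Scheme.Hom.comp_apply, ← Scheme.Hom.comp_apply, hsq.w]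
    have h1 := isGen_map_iso ψ (hσ.pullback g)
    have e1 : ψ.hom.app (g ⁻¹ᵁ D) (M2.pullSec g N σ) = res' r L eD.le σ := by
      have := bc0_res' hsq.w L (le_refl (g ⁻¹ᵁ D)) σ eD.le
      rwa [res', mres_id] at this
    rw [e1] at h1
    have h2 := (isGen_of_isGen_push q hq hN' e.symm h1).mres eD.ge
    erw [mres_mres, mres_id] at h2
    exact h2
  exact ⟨N, hN, ⟨ε⟩, ⟨(asIso η).symm⟩⟩

end Descent

end Groth.Agent.ParaFDesc27
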