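import Groth.Agent.Lib.ParaFDesc27.QcqsBC
import Groth.Agent.Lib.ParaF27.Pair
import Groth.Agent.Lib.ModM1.Fpqc
import Groth.Agent.Lib.ModLimH13.LocFree

/-!
# Descent of parafactoriality along flat surjective quasi-compact morphisms
-/

set_option autoImplicit false
set_option linter.style.haveILetI false
set_option maxHeartbeats 1000000

universe u

open CategoryTheory CategoryTheory.Limits AlgebraicGeometry TopologicalSpace Opposite

namespace Groth.Agent.ParaFDesc27

open Groth.Agent.M1 Groth.Agent.ParaF27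

theorem isInvertible_of_pullback {X Y : Scheme.{u}} (f : Y ⟶ X) [Flat f] [Surjective f] [QuasiCompact f]
    {M : X.Modules} (hM : Coh.IsQCoh M) (h : PicF.IsInvertible ((Scheme.Modules.pullback f).obj M)) :
    PicF.IsInvertible M := by
  have hfree := M1.isFinLocFree_of_pullback_fpqc f hM (M2.isFinLocFree_of_isInvertible h)
  intro x
  obtain ⟨U, n, hxU, ⟨i⟩⟩ := hfree x
  obtain ⟨y, rfl⟩ := f.surjective x
  obtain ⟨V, hyV, ⟨e⟩⟩ := (M2.isInvertible_iff_isFinLocFreeOfRank_one _).1 h y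
  obtain rfl : n = 1 := ModLimH13.rank_unique_at (show y ∈ f ⁻¹ᵁ U from hxU) hyV
    (M2.pullbackRestrictIso f M U ≪≫ (Scheme.Modules.pullback _).mapIso i ≪≫ M2.freeModPullbackIso _ n) e
  exact ⟨U, hxU, ⟨i ≪≫ M2.freeModOneIso _⟩⟩

variable {X X' : Scheme.{u}} (f : X' ⟶ X) [QuasiCompact f] [Flat f] [Surjective f] {U : X.Opens}

/-- Direct images to an open along `U` stay invertible. -/
theorem isInvertible_pushforward_of_descent [QuasiCompact U.ι] (h : PF (f ⁻¹ᵁ U)) (V : X.Opens)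
    (L : ((V ⊓ U : X.Opens) : Scheme.{u}).Modules) (hL : PicF.IsInvertible L) :
    PicF.IsInvertible ((Scheme.Modules.pushforward (X.homOfLE (inf_le_left : V ⊓ U ≤ V))).obj L) := by
  let j := X.homOfLE (inf_le_left : V ⊓ U ≤ V)
  haveI : QuasiCompact j := by
    have hr : j.opensRange = V.ι ⁻¹ᵁ U := by
      rw [Scheme.opensRange_homOfLE]
      ext x
      exact ⟨fun hx => hx.2, fun hx => ⟨x.2, hx⟩⟩
    have hsq := IsPullback.of_hasPullback V.ι U.ι
    have hs : Set.range (pullback.fst V.ι U.ι) = Set.range j := by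
      rw [IsOpenImmersion.range_pullbackFst]
      refine Eq.trans ?_ (congrArg (fun O : (V : Scheme.{u}).Opens => (O : Set (V : Scheme.{u}))) hr).symm
      rw [Scheme.Opens.opensRange_ι]
    have : QuasiCompact (pullback.fst V.ι U.ι) := inferInstance
    rw [show j = (IsOpenImmersion.isoOfRangeEq (pullback.fst V.ι U.ι) j hs).inv ≫ pullback.fst V.ι U.ι by simp]
    infer_instance
  haveI : Coh.IsQCoh L := M2.isQCoh_of_isFinLocFree (M2.isFinLocFree_of_isInvertible hL)
  haveI : Surjective (f ∣_ V) := IsZariskiLocalAtTarget.restrict ‹Surjective f› V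
  haveI : QuasiCompact (f ∣_ V) := IsZariskiLocalAtTarget.restrict ‹QuasiCompact f› V
  haveI : Flat (f ∣_ V) := IsZariskiLocalAtTarget.restrict ‹Flat f› V
  refine isInvertible_of_pullback (f ∣_ V) (M1.isQCoh_push j inferInstance) ?_
  let j' := pullback.snd j (f ∣_ V)
  have hsq : IsPullback (pullback.fst j (f ∣_ V)) j' j (f ∣_ V) := IsPullback.of_hasPullback _ _
  have hr : j'.opensRange = (f ⁻¹ᵁ V).ι ⁻¹ᵁ (f ⁻¹ᵁ U) := by
    apply TopologicalSpace.Opens.ext
    show Set.range j' = _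
    rw [IsOpenImmersion.range_pullbackSnd]
    ext x
    constructor
    · rintro ⟨y, hy⟩
      change f ((f ⁻¹ᵁ V).ι x) ∈ U
      rw [← Scheme.Hom.comp_apply, ← morphismRestrict_ι, Scheme.Hom.comp_apply, ← hy,
        ← Scheme.Hom.comp_apply, Scheme.homOfLE_ι]
      exact y.2.2
    · intro hx
      refine ⟨⟨f x.1, x.2, hx⟩, V.ι.isOpenEmbedding.injective ?_⟩
      rw [← Scheme.Hom.comp_apply, Scheme.homOfLE_ι, ← Scheme.Hom.comp_apply, morphismRestrict_ι]
      rfl
  have := isIso_bc0_of_flat hsq L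
  exact M2.isInvertible_of_iso (asIso (CohBC.bc0 j (f ∣_ V) j' (pullback.fst j (f ∣_ V)) hsq.w L)).symm
    (h.push (f ⁻¹ᵁ V).ι j' hr _ (PicLoc.isInvertible_pullback _ hL))

theorem isInvertible_pushforward_unit [QuasiCompact U.ι] (h : PF (f ⁻¹ᵁ U)) :
    PicF.IsInvertible ((Scheme.Modules.pushforward U.ι).obj (Coh.structureModule (U : Scheme.{u}))) := by
  let L := Coh.structureModule (U : Scheme.{u})
  have hL : PicF.IsInvertible L := PicLoc.isInvertible_structureModule _
  haveI : Coh.IsQCoh L := M2.isQCoh_of_isFinLocFree (M2.isFinLocFree_of_isInvertible hL)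
  refine isInvertible_of_pullback f (M1.isQCoh_push U.ι inferInstance) ?_
  let j' := pullback.snd U.ι f
  have hsq : IsPullback (pullback.fst U.ι f) j' U.ι f := IsPullback.of_hasPullback _ _
  have hr : j'.opensRange = (𝟙 X') ⁻¹ᵁ (f ⁻¹ᵁ U) := by
    apply TopologicalSpace.Opens.ext
    show Set.range j' = _
    rw [IsOpenImmersion.range_pullbackSnd, Scheme.Opens.opensRange_ι]
    rfl
  have := isIso_bc0_of_flat hsq L
  exact M2.isInvertible_of_iso (asIso (CohBC.bc0 U.ι f j' (pullback.fst U.ι f) hsq.w L)).symm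
    (h.push (𝟙 X') j' hr _ (PicLoc.isInvertible_pullback _ hL))

/-- Functions extend uniquely. -/
theorem rb_of_descent [QuasiCompact U.ι] (h : PF (f ⁻¹ᵁ U)) : RB U := by
  let A := (Scheme.Modules.pushforward U.ι).obj (Coh.structureModule (U : Scheme.{u}))
  refine rb_of_local fun x => ?_
  obtain ⟨D, g, hxD, hg⟩ := ProjUP.exists_isGen_of_invertible (isInvertible_pushforward_unit f h) x
  refine ⟨D, hxD, fun Z hZ => ?_⟩
  obtain ⟨a, ha⟩ := (hg D le_rfl).2 (1 : Γ((U : Scheme.{u}), U.ι ⁻¹ᵁ D))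
  let g₀ : Γ((U : Scheme.{u}), U.ι ⁻¹ᵁ D) := mres A (le_refl D) g
  have hag : U.ι.app D a * g₀ = 1 := ha
  have hau : IsUnit (U.ι.app D a) := IsUnit.of_mul_eq_one _ hag
  have hbo : X.basicOpen a = D := by
    have h1 : IsUnit ((X'.presheaf.map (homOfLE (inf_le_left : (f ⁻¹ᵁ D) ⊓ (f ⁻¹ᵁ U) ≤ f ⁻¹ᵁ D)).op).hom
        (f.app D a)) := by
      have h2 : IsUnit (X.presheaf.map (homOfLE (inf_le_left : D ⊓ U ≤ D)).op a) := by
        rw [Scheme.Opens.ι_app] at hau
        have e : D ⊓ U ≤ U.ι ''ᵁ (U.ι ⁻¹ᵁ D) := fun y hy => ⟨⟨y, hy.2⟩, hy.1, rfl⟩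
        have h0 := hau.map (X.presheaf.map (homOfLE e).op).hom
        have e2 := ConcreteCategory.congr_hom (X.presheaf.map_comp
          (homOfLE (U.ι.image_preimage_le D)).op (homOfLE e).op) a
        exact (show IsUnit (X.presheaf.map ((homOfLE (U.ι.image_preimage_le D)).op ≫ (homOfLE e).op) a) by
          rw [e2]; exact h0)
      have h3 := h2.map (f.app (D ⊓ U)).hom
      rw [← CommRingCat.comp_apply, Scheme.Hom.naturality] at h3
      exact h3
    obtain ⟨b, hb⟩ := h1.exists_right_inv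
    obtain ⟨c, rfl⟩ := (h.1 (f ⁻¹ᵁ D)).2 b
    have h4 : IsUnit (f.app D a) := IsUnit.of_mul_eq_one c ((h.1 (f ⁻¹ᵁ D)).1 (by rw [map_mul, map_one]; exact hb))
    refine le_antisymm (X.basicOpen_le a) fun y hy => ?_
    obtain ⟨y', rfl⟩ := f.surjective y
    have h5 : f ⁻¹ᵁ X.basicOpen a = f ⁻¹ᵁ D := by
      rw [Scheme.preimage_basicOpen, Scheme.basicOpen_of_isUnit _ h4]
    exact (show y' ∈ f ⁻¹ᵁ X.basicOpen a by rw [h5]; exact hy)
  have hu : IsUnit a := RingedSpace.isUnit_of_isUnit_germ _ D a fun y hy => by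
    rw [← hbo] at hy
    exact ((X.mem_basicOpen a y (hbo ▸ hy)).1 hy)
  have hk : ∀ r : Γ(X, Z), (U.ι.app Z r : Γ((U : Scheme.{u}), U.ι ⁻¹ᵁ Z)) =
      ((r * X.presheaf.map (homOfLE hZ).op a) • mres A hZ g : Γ(A, Z)) := fun r => by
    have h1 := congrArg (mres A hZ) ha
    rw [mres_smul, mres_mres] at h1
    rw [mul_smul, h1]
    show U.ι.app Z r = U.ι.app Z r * ((U : Scheme.{u}).presheaf.map (homOfLE (U.ι.preimage_mono hZ)).op 1)
    rw [map_one, mul_one]
  have hb : Function.Bijective (U.ι.app Z) := by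
    rw [funext hk]
    exact (hg Z hZ).comp (hu.map (X.presheaf.map (homOfLE hZ).op).hom).unit.mulRight.bijective
  rw [Scheme.Opens.ι_app] at hb
  exact map_bij_congr rfl (by rw [Scheme.Hom.image_preimage_eq_opensRange_inf, Scheme.Opens.opensRange_ι, inf_comm])
    hb _

theorem pf_of_descent [QuasiCompact U.ι] (h : PF (f ⁻¹ᵁ U)) : PF U :=
  ⟨rb_of_descent f h, fun V L hL => isInvertible_pushforward_of_descent f h V L hL⟩

end Groth.Agent.ParaFDesc27
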