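import Groth.Agent.Lib.ParaFDesc27.GlobalBC
import Groth.Agent.Lib.ParaFDesc27.PicDescent

/-!
# Generators at points and their descent
-/

set_option autoImplicit false
set_option linter.style.haveILetI false
set_option backward.isDefEq.respectTransparency false

universe u

open AlgebraicGeometry CategoryTheory Limits TopologicalSpace

noncomputable section

namespace Groth.Agent.ParaFDesc27

open M1 ModLimH13

variable {X Y : Scheme.{u}}

/-- A global section generating the stalk of a pullback at a point generates near the image. -/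
theorem exists_isGen_nbhd (r : Y ⟶ X) {M : X.Modules} (hM : PicF.IsInvertible M) (m : Γ(M, ⊤)) (y : Y)
    (h : Function.Bijective fun c : Y.presheaf.stalk y =>
      c • (((Scheme.Modules.pullback r).obj M).presheaf.germ (r ⁻¹ᵁ ⊤) y trivial (M2.pullSec r M m) :
        ((Scheme.Modules.pullback r).obj M).presheaf.stalk y)) :
    ∃ D : X.Opens, r y ∈ D ∧ Twist.IsGen M D (mres M le_top m) := by
  obtain ⟨D, e, hyD, he⟩ := ProjUP.exists_isGen_of_invertible hM (r y)
  obtain ⟨a, ha⟩ := (he D le_rfl).2 (mres M le_top m)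
  dsimp only at ha
  rw [mres_id] at ha
  let G := (Scheme.Modules.pullback r).obj M
  let ge : G.presheaf.stalk y := G.presheaf.germ (r ⁻¹ᵁ D) y hyD (M2.pullSec r M e)
  have hgm : (G.presheaf.germ (r ⁻¹ᵁ ⊤) y trivial (M2.pullSec r M m) : G.presheaf.stalk y) =
      Y.presheaf.germ (r ⁻¹ᵁ D) y hyD (r.app D a) • ge := by
    rw [← germ_smul, ← M2.pullSec_smul, ha, show M2.pullSec r M (mres M le_top m) =
      mres G (r.preimage_mono le_top) (M2.pullSec r M m) from app_mres _ _ m, germ_mres]
  obtain ⟨c, hc⟩ := h.2 ge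
  dsimp only at hc
  rw [hgm, smul_smul] at hc
  have hu : IsUnit (Y.presheaf.germ (r ⁻¹ᵁ D) y hyD (r.app D a)) :=
    IsUnit.of_mul_eq_one c (((he.pullback r).stalk hyD).1 (by
      show (_ * c) • ge = (1 : Y.presheaf.stalk y) • ge
      rw [mul_comm, hc, one_smul]))
  rw [← Scheme.Hom.germ_stalkMap_apply, isUnit_map_iff] at hu
  refine ⟨X.basicOpen a, (X.mem_basicOpen a (r y) hyD).2 hu, fun V hV => ?_⟩
  have hua : IsUnit (X.presheaf.map (homOfLE (hV.trans (X.basicOpen_le a))).op a) := by
    have h1 := (RingedSpace.isUnit_res_basicOpen _ a).map (X.presheaf.map (homOfLE hV).op).hom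
    have e2 := ConcreteCategory.congr_hom (X.presheaf.map_comp
      (homOfLE (X.basicOpen_le a)).op (homOfLE hV).op) a
    exact (show IsUnit (X.presheaf.map ((homOfLE (X.basicOpen_le a)).op ≫ (homOfLE hV).op) a) by
      rw [e2]; exact h1)
  rw [mres_mres, ← mres_mres M (le_top : D ≤ ⊤) (hV.trans (X.basicOpen_le a)), ← ha, mres_smul]
  simp only [smul_smul]
  exact (he V _).comp hua.unit.mulRight.bijective

/-- A section generating at every point trivialises. -/
theorem nonempty_iso_structure_of_gen {M : X.Modules} (m : Γ(M, ⊤))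
    (h : ∀ x : X, ∃ D : X.Opens, x ∈ D ∧ Twist.IsGen M D (mres M le_top m)) :
    Nonempty (M ≅ Coh.structureModule X) := by
  haveI : IsIso (secHom m) := isIso_of_gens _ fun x => by
    obtain ⟨D, hx, hD⟩ := h x
    refine ⟨D, mres (Coh.structureModule X) le_top (one ⊤), hx, isGen_one.mres le_top, ?_⟩
    have e1 : (secHom m).app D (mres (Coh.structureModule X) le_top (one ⊤)) = mres M le_top m :=
      (app_mres _ _ _).trans (congrArg (mres M le_top) (secHom_app_one m))
    rwa [e1]
  exact ⟨(asIso (secHom m)).symm⟩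

end Groth.Agent.ParaFDesc27
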