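import Groth.Agent.Lib.ParaFDesc27.DescentFamily
import Groth.Agent.Lib.ParaFDesc27.PointGen
import Groth.Agent.Lib.ParaF27.LocalRing
import Groth.Agent.Lib.LimH13.NhdLimit
import Groth.Agent.Lib.LimShf14.Pic
import Groth.Agent.Lib.SMT.CMBasic
import Groth.Agent.Lib.Cyc26.Stalk
import Groth.Agent.Lib.Descend.BaseChangeAt
import Groth.Agent.S6039

/-!
# Parafactoriality is a stalkwise property
-/

set_option autoImplicit false
set_option linter.style.haveILetI false
set_option backward.isDefEq.respectTransparency false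
set_option backward.isDefEq.respectTransparency.types false
set_option maxHeartbeats 1000000

universe u

open CategoryTheory CategoryTheory.Limits AlgebraicGeometry TopologicalSpace IsLocalRing

noncomputable section

namespace Groth.Agent.ParaFDesc27

open M1 ModLimH13 ParaF27

section Local

variable (A : Type u) [CommRing A] [IsLocalRing A]

theorem mem_punctured {q : Spec (CommRingCat.of A)} :
    q ∈ FEt.puncturedSpec A ↔ q ≠ closedPoint A := Iff.rfl

/-- Invertible modules on local spectra have a generator. -/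
theorem exists_isGen_local {M : (Spec (CommRingCat.of A)).Modules} (hM : PicF.IsInvertible M) :
    ∃ t : Γ(M, ⊤), Twist.IsGen M ⊤ t := by
  obtain ⟨D, t, hD, ht⟩ := ProjUP.exists_isGen_of_invertible hM (closedPoint A)
  obtain rfl := eq_top_of_closedPoint_mem A D hD
  exact ⟨t, ht⟩

theorem pf_punctured {A : Type u} [CommRing A] [IsLocalRing A] (h : ParaF.IsParafactorialLocalRing A) :
    PF (FEt.puncturedSpec A) := by
  rw [← ParaF27.compl_closedPoint A]
  exact pf_of_pair h

/-- Parafactoriality of local rings is invariant under isomorphisms. -/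
theorem isParafactorial_of_iso {B : Type u} [CommRing B] [IsLocalRing B] (e : CommRingCat.of A ≅ CommRingCat.of B)
    (h : ParaF.IsParafactorialLocalRing A) : ParaF.IsParafactorialLocalRing B := by
  refine (pair_iff _).2 ?_
  let w := Spec.map e.hom
  have hwc : w (closedPoint B) = closedPoint A := by
    show PrimeSpectrum.comap e.hom.hom (closedPoint B) = closedPoint A
    haveI : IsLocalHom e.hom.hom := isLocalHom_of_isIso e.hom
    exact IsLocalRing.comap_closedPoint e.hom.hom
  have : w ⁻¹ᵁ FEt.puncturedSpec A = FEt.puncturedSpec B := by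
    ext q
    show w q ≠ closedPoint A ↔ q ≠ closedPoint B
    exact ⟨fun hq hq' => hq (hq' ▸ hwc), fun hq hq' => hq (w.isOpenEmbedding.injective (hq'.trans hwc.symm))⟩
  show PF (FEt.puncturedSpec B)
  rw [← this]
  exact (pf_punctured h).preimage w

theorem depth_structureModule {X : Scheme.{u}} (x : X) :
    LocCoh.depth (X.presheaf.stalk x) ((Coh.structureModule X).presheaf.stalk x) =
      LocCoh.depth (X.presheaf.stalk x) (X.presheaf.stalk x) :=
  (DepthLib.idealDepth_congr (LinearEquiv.ofBijective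
    (LinearMap.toSpanSingleton (X.presheaf.stalk x) ((Coh.structureModule X).presheaf.stalk x)
      ((Coh.structureModule X).presheaf.germ ⊤ x trivial (one ⊤)))
    (Cyc26.structureModule_stalk_bijective x))).symm

/-- Parafactorial local rings have depth at least two. -/
theorem two_le_depth_of_parafactorial [IsNoetherianRing A] (h : ParaF.IsParafactorialLocalRing A) :
    (2 : ℕ∞) ≤ LocCoh.depth A A := by
  let X := Spec (CommRingCat.of A)
  have := LocCohZQ.two_le_depth_of_bijective (FEt.puncturedSpec A) (Coh.structureModule X)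
    (M1.isCoh_structureModule X) (fun V => (pf_punctured h).1 V) (closedPoint A) (fun h' => h' rfl)
  rw [depth_structureModule] at this
  exact this.trans_eq (SMT.depth_eq_of_ringEquiv (stalkClosedPointIso (CommRingCat.of A)).commRingCatIsoToRingEquiv).symm

/-- Depth two gives extension of functions across the closed point. -/
theorem rb_punctured_of_depth [IsNoetherianRing A] (h : (2 : ℕ∞) ≤ LocCoh.depth A A) :
    RB (FEt.puncturedSpec A) := fun W => by
  let X := Spec (CommRingCat.of A)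
  refine S1575.result X (Coh.structureModule X) (M1.isCoh_structureModule X) _ (fun x hx => ?_) W
  obtain rfl : x = closedPoint A := not_not.1 hx
  rw [depth_structureModule]
  exact h.trans_eq (SMT.depth_eq_of_ringEquiv (stalkClosedPointIso (CommRingCat.of A)).commRingCatIsoToRingEquiv)

end Local

/-- A point of a closed subset of a noetherian space in the closure of a relatively closed subset of an open
specialises from that subset. -/
theorem exists_specializes_mem {X : Type*} [TopologicalSpace X] [NoetherianSpace X] [QuasiSober X]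
    {C : Set X} {O : Opens X} (hC : C ⊆ O) (hcl : closure C ∩ O ⊆ C) {y : X} (hy : y ∈ closure C) :
    ∃ w ∈ C, w ⤳ y := by
  obtain ⟨S, hSf, hSc, hSi, hS⟩ := NoetherianSpace.exists_finite_set_isClosed_irreducible (isClosed_closure (s := C))
  have hCsub : C ⊆ ⋃₀ {Z ∈ S | (Z ∩ (O : Set X)).Nonempty} := fun x hx => by
    obtain ⟨Z, hZ, hxZ⟩ := (hS ▸ subset_closure hx : x ∈ ⋃₀ S)
    exact ⟨Z, ⟨hZ, x, hxZ, hC hx⟩, hxZ⟩
  obtain ⟨Z, ⟨hZS, hZO⟩, hyZ⟩ := closure_minimal hCsub
    (by rw [Set.sUnion_eq_biUnion]; exact Set.Finite.isClosed_biUnion (Set.Finite.subset hSf (Set.sep_subset _ _)) fun Z hZ => hSc Z hZ.1) hy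
  obtain ⟨w, hw⟩ := QuasiSober.sober (hSi Z hZS) (hSc Z hZS)
  exact ⟨w, hcl ⟨hS ▸ Set.mem_sUnion_of_mem hw.mem hZS, (hw.mem_open_set_iff O.2).2 hZO⟩,
    hw.specializes hyZ⟩

variable {X : Scheme.{u}} [IsLocallyNoetherian X]

theorem flat_fromSpecStalk' (x : X) : Flat (X.fromSpecStalk x) := Descend.flat_fromSpecStalk x

/-- A section whose pullback generates, generates near the image point, where the module has a generator. -/
theorem exists_isGen_of_pullback {S S' : Scheme.{u}} (g : S' ⟶ S) {M : S.Modules} {D : S.Opens} {s : Γ(M, D)}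
    (h : Twist.IsGen ((Scheme.Modules.pullback g).obj M) (g ⁻¹ᵁ D) (M2.pullSec g M s)) (y : S') (hy : g y ∈ D)
    {E : S.Opens} {e : Γ(M, E)} (hyE : g y ∈ E) (he : Twist.IsGen M E e) :
    ∃ (W : S.Opens) (hle : W ≤ D), g y ∈ W ∧ Twist.IsGen M W (mres M hle s) := by
  let Z := D ⊓ E
  obtain ⟨a, ha⟩ := (he Z inf_le_right).2 (mres M (inf_le_left : Z ≤ D) s)
  dsimp only at ha
  let G := (Scheme.Modules.pullback g).obj M
  let e' := mres G (g.preimage_mono (inf_le_right : Z ≤ E)) (M2.pullSec g M e)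
  let s' := mres G (g.preimage_mono (inf_le_left : Z ≤ D)) (M2.pullSec g M s)
  have hs : s' = g.app Z a • e' := by
    show mres G _ (M2.pullSec g M s) = g.app Z a • mres G _ (M2.pullSec g M e)
    rw [← show M2.pullSec g M (mres M (inf_le_left : Z ≤ D) s) = mres G (g.preimage_mono inf_le_left) (M2.pullSec g M s)
      from app_mres _ _ s, ← ha, M2.pullSec_smul,
      show M2.pullSec g M (mres M (inf_le_right : Z ≤ E) e) = mres G (g.preimage_mono inf_le_right) (M2.pullSec g M e)
      from app_mres _ _ e]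
  have hau : IsUnit (g.app Z a) := by
    obtain ⟨b, hb⟩ := (h (g ⁻¹ᵁ Z) (g.preimage_mono inf_le_left)).2 e'
    change b • s' = e' at hb
    refine IsUnit.of_mul_eq_one b ((he.pullback g (g ⁻¹ᵁ Z) (g.preimage_mono inf_le_right)).1 ?_)
    show (g.app Z a * b) • e' = (1 : Γ(S', g ⁻¹ᵁ Z)) • e'
    rw [mul_comm, mul_smul, ← hs, hb, one_smul]
  have hyW : y ∈ g ⁻¹ᵁ S.basicOpen a := by
    rw [Scheme.preimage_basicOpen, Scheme.basicOpen_of_isUnit _ hau]
    exact ⟨hy, hyE⟩
  have hW : S.basicOpen a ≤ Z := S.basicOpen_le a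
  have hu : IsUnit (S.presheaf.map (homOfLE hW).op a) := S.toRingedSpace.isUnit_res_basicOpen a
  refine ⟨S.basicOpen a, hW.trans inf_le_left, hyW, fun V hV => ?_⟩
  rw [← mres_mres M (inf_le_left : Z ≤ D) hW, ← ha, mres_smul, mres_mres, mres_smul, mres_mres]
  simp only [smul_smul]
  exact (he V _).comp (hu.map (S.presheaf.map (homOfLE hV).op).hom).unit.mulRight.bijective

/-- Functions extend across a closed subset with parafactorial stalks. -/
theorem rb_of_stalks {U : X.Opens} (h : ∀ x : X, x ∉ U → ParaF.IsParafactorialLocalRing (X.presheaf.stalk x)) :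
    RB U := fun W =>
  S1575.result X (Coh.structureModule X) (M1.isCoh_structureModule X) U
    (fun x hx => (depth_structureModule x).symm ▸ two_le_depth_of_parafactorial _ (h x hx)) W

/-- Invertible modules extend across a closed subset with parafactorial stalks. -/
theorem isInvertible_push_of_stalks {T : Scheme.{u}} (j : T ⟶ X) [IsOpenImmersion j]
    (h : ∀ x : X, x ∉ j.opensRange → ParaF.IsParafactorialLocalRing (X.presheaf.stalk x))
    (L : T.Modules) (hL : PicF.IsInvertible L) :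
    PicF.IsInvertible ((Scheme.Modules.pushforward j).obj L) := by
  have hrb := rb_of_stalks h
  let U := j.opensRange
  haveI hLq : Coh.IsQCoh L := Twist.isQCoh_of_isInvertible hL
  let P := (Scheme.Modules.pushforward j).obj L
  haveI hPq : Coh.IsQCoh P := isQCoh_push j hLq
  -- generators of `P` on opens of the range
  have hPU : ∀ w ∈ U, ∃ (E : X.Opens) (e : Γ(P, E)), w ∈ E ∧ E ≤ U ∧ Twist.IsGen P E e := by
    rintro _ ⟨t, rfl⟩
    obtain ⟨E, e, htE, he⟩ := ProjUP.exists_isGen_of_invertible hL t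
    obtain ⟨E', e', hE', he'⟩ := Curve17.exists_isGen_of_restrict j P
      (M2.isInvertible_of_iso (ParaF27.counitIso j L).symm hL) t
    exact ⟨E' ⊓ U, mres P inf_le_left e', ⟨hE', ⟨t, rfl⟩⟩, inf_le_right, he'.mres inf_le_left⟩
  -- the locus with generators
  let G : X.Opens := ⨆ D : {D : X.Opens // ∃ g : Γ(P, D), Twist.IsGen P D g}, D.1
  have hUG : U ≤ G := fun w hw => by
    obtain ⟨E, e, hwE, -, he⟩ := hPU w hw
    exact Opens.mem_iSup.2 ⟨⟨E, e, he⟩, hwE⟩
  have hPG : PicF.IsInvertible ((Scheme.Modules.pullback G.ι).obj P) := by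
    refine Twist.isInvertible_of_iso ((Scheme.Modules.restrictFunctorIsoPullback G.ι).app P) ?_
    refine ParaF27.isInvertible_of_cover
      (fun D : {D : X.Opens // ∃ g : Γ(P, D), Twist.IsGen P D g} => X.homOfLE (le_iSup (fun D : {D : X.Opens // ∃ g : Γ(P, D), Twist.IsGen P D g} => D.1) D : D.1 ≤ G))
      (fun x => ?_) fun D => ?_
    · obtain ⟨D, hD⟩ := Opens.mem_iSup.1 x.2
      exact ⟨D, ⟨x.1, hD⟩, Subtype.ext (by simp)⟩
    · obtain ⟨D, g, hg⟩ := D
      obtain ⟨e⟩ := Twist.nonempty_restrict_iso P D g hg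
      exact M2.isInvertible_of_iso (restrictRestrictIso P G.ι _ D.ι (Scheme.homOfLE_ι _ _)).symm
        (M2.isInvertible_of_iso e.symm (PicLoc.isInvertible_structureModule _))
  suffices hG : ∀ x : X, x ∈ G by
    intro x
    obtain ⟨⟨D, g, hg⟩, hxD⟩ := Opens.mem_iSup.1 (hG x)
    exact ⟨D, hxD, Twist.nonempty_restrict_iso P D g hg⟩
  by_contra hne
  obtain ⟨x₀, hx₀⟩ := not_forall.1 hne
  -- a maximal point outside
  let Cs : Set X := (G : Set X)ᶜ
  obtain ⟨Z, hZ, hxZ⟩ : ∃ Z ∈ irreducibleComponents ↥Cs, (⟨x₀, hx₀⟩ : Cs) ∈ Z :=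
    ⟨irreducibleComponent _, irreducibleComponent_mem_irreducibleComponents _, mem_irreducibleComponent⟩
  haveI : QuasiSober Cs := (G.2.isClosed_compl.isClosedEmbedding_subtypeVal).quasiSober
  obtain ⟨z, hz⟩ := QuasiSober.sober hZ.1 (isClosed_of_mem_irreducibleComponents Z hZ)
  have hmax : ∀ w : X, w ⤳ z.1 → w ∉ G → w = z.1 := fun w hw hwG => by
    have hw' : (⟨w, hwG⟩ : Cs) ⤳ z := (subtype_specializes_iff _ _).2 hw
    have hsub : Z ⊆ closure {(⟨w, hwG⟩ : Cs)} := by
      rw [← hz.def]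
      exact closure_minimal (Set.singleton_subset_iff.2 hw'.mem_closure) isClosed_closure
    have heq : closure {(⟨w, hwG⟩ : Cs)} = Z :=
      le_antisymm (hZ.2 isIrreducible_singleton.closure hsub) hsub
    exact congrArg Subtype.val (IsGenericPoint.eq (show IsGenericPoint (⟨w, hwG⟩ : Cs) Z from heq) hz)
  have hzG : z.1 ∉ G := z.2
  generalize hy : z.1 = y at hzG hmax
  have hyU : y ∉ U := fun h' => hzG (hUG h')
  let A : Type u := X.presheaf.stalk y
  let S : Scheme.{u} := Spec (CommRingCat.of A)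
  let g : S ⟶ X := X.fromSpecStalk y
  haveI : Flat g := flat_fromSpecStalk' y
  have hgen : ∀ q : S, g q ⤳ y := fun q => Scheme.range_fromSpecStalk.le ⟨q, rfl⟩
  have hgc : g (closedPoint A) = y := Scheme.fromSpecStalk_closedPoint
  have hpunct : ∀ q : S, q ∈ FEt.puncturedSpec A → g q ∈ G := fun q hq => by
    by_contra h'
    exact hq (g.isEmbedding.injective ((hmax _ (hgen q) h').trans hgc.symm))
  have hsq : IsPullback (pullback.fst j g) (pullback.snd j g) j g := IsPullback.of_hasPullback j g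
  haveI := isIso_bc0_of_flat hsq L
  let Q := (Scheme.Modules.pushforward (pullback.snd j g)).obj ((Scheme.Modules.pullback (pullback.fst j g)).obj L)
  let ψ : (Scheme.Modules.pullback g).obj P ≅ Q := asIso (CohBC.bc0 j g (pullback.snd j g) (pullback.fst j g) hsq.w L)
  let ι := (FEt.puncturedSpec A).ι
  have hrange : (pullback.snd j g).opensRange ≤ FEt.puncturedSpec A := by
    rintro _ ⟨t, rfl⟩ hc
    refine hyU ⟨pullback.fst j g t, ?_⟩
    rw [← Scheme.Hom.comp_apply, hsq.w, Scheme.Hom.comp_apply]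
    exact (congrArg g (Set.mem_singleton_iff.1 hc)).trans hgc
  have hQ₀ : PicF.IsInvertible (Q.restrict ι) := by
    let k : (FEt.puncturedSpec A : Scheme.{u}) ⟶ (G : Scheme.{u}) :=
      IsOpenImmersion.lift G.ι (ι ≫ g) (by
        rintro _ ⟨q, rfl⟩
        rw [Scheme.Opens.range_ι]
        exact hpunct q.1 q.2)
    refine Twist.isInvertible_of_iso ?_ (Twist.isInvertible_pullback k hPG)
    exact (Scheme.Modules.pullbackComp k G.ι).app P ≪≫
      (Scheme.Modules.pullbackCongr (IsOpenImmersion.lift_fac G.ι (ι ≫ g) _)).app P ≪≫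
      ((Scheme.Modules.pullbackComp ι g).app P).symm ≪≫
      (Scheme.Modules.pullback ι).mapIso ψ ≪≫ ((Scheme.Modules.restrictFunctorIsoPullback ι).app Q).symm
  haveI : IsIso ((Scheme.Modules.restrictAdjunction ι).unit.app Q) := isIso_unit_of_resBij ι fun W => by
    rw [Scheme.Opens.opensRange_ι]
    let M' := (Scheme.Modules.pullback (pullback.fst j g)).obj L
    show Function.Bijective (mres M' ((pullback.snd j g).preimage_mono (inf_le_left : W ⊓ FEt.puncturedSpec A ≤ W)))
    exact mres_bijective_of_eq' M' _ (fun t ht => ⟨ht, hrange ⟨t, rfl⟩⟩)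
  have hQ : PicF.IsInvertible Q :=
    M2.isInvertible_of_iso (asIso ((Scheme.Modules.restrictAdjunction ι).unit.app Q)).symm
      ((pf_punctured (h y hyU)).push (𝟙 S) ι (by rw [Scheme.Opens.opensRange_ι]; rfl) _ hQ₀)
  obtain ⟨t, ht⟩ := exists_isGen_local A (M2.isInvertible_of_iso ψ.symm hQ)
  -- a section of `P` near `y` whose pullback generates
  obtain ⟨D, hD, hyD, -⟩ := Opens.isBasis_iff_nbhd.1 X.isBasis_affineOpens (show y ∈ (⊤ : X.Opens) from trivial)
  have hDtop : (⊤ : S.Opens) ≤ g ⁻¹ᵁ D := fun q _ => (hgen q).mem_open D.2 hyD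
  haveI : IsLocalRing Γ(S, ⊤) :=
    (Scheme.ΓSpecIso (CommRingCat.of A)).commRingCatIsoToRingEquiv.symm.isLocalRing
  let Gp := (Scheme.Modules.pullback g).obj P
  obtain ⟨n, a, ha, hn⟩ : ∃ (n : Γ(P, D)) (a : Γ(S, ⊤)), IsUnit a ∧ res' g P hDtop n = a • t := by
    by_contra hno
    have key : ∀ s : Γ(Gp, ⊤), ∃ a ∈ nonunits Γ(S, ⊤), s = a • t := by
      refine pullback_induction g P hDtop hD (isAffineOpen_top S) ⟨0, not_isUnit_zero, (zero_smul _ _).symm⟩ ?_ ?_
      · rintro _ _ ⟨a, ha, rfl⟩ ⟨b, hb, rfl⟩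
        exact ⟨a + b, IsLocalRing.nonunits_add ha hb, (add_smul _ _ _).symm⟩
      · intro c s
        obtain ⟨b, hb⟩ := (ht ⊤ le_rfl).2 (res' g P hDtop s)
        dsimp only at hb
        rw [mres_id] at hb
        refine ⟨c * b, fun hu => hno ⟨s, b, isUnit_of_mul_isUnit_right hu, hb.symm⟩, ?_⟩
        rw [mul_smul, hb]
    obtain ⟨a, ha, hta⟩ := key t
    have h1 : a = 1 := (ht ⊤ le_rfl).1 (by
      show a • mres Gp le_rfl t = (1 : Γ(S, ⊤)) • mres Gp le_rfl t
      rw [mres_id, one_smul, ← hta])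
    exact ha (h1 ▸ isUnit_one)
  have hgn : Twist.IsGen Gp (g ⁻¹ᵁ D) (M2.pullSec g P n) := by
    intro V hV
    have he : mres Gp hV (M2.pullSec g P n) = mres Gp (le_top : V ≤ ⊤) (a • t) := by
      rw [← hn]
      exact (mres_mres _ _ _ _).symm
    rw [he, mres_smul]
    simp only [smul_smul]
    exact (ht V le_top).comp (ha.map (S.presheaf.map (homOfLE (le_top : V ≤ ⊤)).op).hom).unit.mulRight.bijective
  -- the locus where `n` generates
  let Gn : X.Opens := ⨆ Z : {Z : X.Opens // ∃ hle : Z ≤ D, Twist.IsGen P Z (mres P hle n)}, Z.1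
  have hGn : ∀ q : S, g q ∈ U → g q ∈ Gn := fun q hq => by
    obtain ⟨E, e, hqE, -, he⟩ := hPU _ hq
    obtain ⟨W, hle, hqW, hW⟩ := exists_isGen_of_pullback g hgn q ((hgen q).mem_open D.2 hyD) hqE he
    exact Opens.mem_iSup.2 ⟨⟨W, hle, hW⟩, hqW⟩
  haveI := IsLocallyNoetherian.component_noetherian (X := X) ⟨D, hD⟩
  haveI : NoetherianSpace D := noetherianSpace_of_isAffineOpen D hD
  haveI : QuasiSober D := D.2.isOpenEmbedding_subtypeVal.quasiSober
  let C : Set D := {w | w.1 ∈ U ∧ w.1 ∉ Gn}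
  let OU : Opens D := ⟨{w | w.1 ∈ U}, U.2.preimage continuous_subtype_val⟩
  have hyC : (⟨y, hyD⟩ : D) ∉ closure C := fun hc => by
    obtain ⟨w, ⟨hwU, hwG⟩, hwy⟩ := exists_specializes_mem (O := OU) (fun w hw => hw.1) (by
      rintro w ⟨hw, hwU⟩
      refine ⟨hwU, fun hwG => ?_⟩
      obtain ⟨v, hv, hv'⟩ := mem_closure_iff.1 hw {v | v.1 ∈ Gn} (Gn.2.preimage continuous_subtype_val) hwG
      exact hv'.2 hv) hc
    have : w.1 ∈ Set.range g := Scheme.range_fromSpecStalk.ge ((subtype_specializes_iff _ _).1 hwy)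
    obtain ⟨q, hq⟩ := this
    exact hwG (hq ▸ hGn q (hq ▸ hwU))
  let W : X.Opens := ⟨Subtype.val '' (closure C)ᶜ, D.2.isOpenEmbedding_subtypeVal.isOpenMap _ isClosed_closure.isOpen_compl⟩
  have hWD : W ≤ D := by rintro _ ⟨w, -, rfl⟩; exact w.2
  have hWU : ∀ w ∈ W, w ∈ U → w ∈ Gn := by
    rintro _ ⟨w, hw, rfl⟩ hwU
    by_contra hwG
    exact hw (subset_closure ⟨hwU, hwG⟩)
  refine hzG (Opens.mem_iSup.2 ⟨⟨W, mres P hWD n, fun V hV => ?_⟩, ⟨⟨y, hyD⟩, hyC, rfl⟩⟩)
  have hVU : Twist.IsGen P (V ⊓ U) (mres P ((inf_le_left.trans hV).trans hWD) n) := by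
    refine Twist.isGen_of_stalk fun w hw => ?_
    obtain ⟨⟨Z, hle, hZ⟩, hwZ⟩ := Opens.mem_iSup.1 (hWU w (hV hw.1) hw.2)
    have := hZ.stalk hwZ
    rw [germ_mres] at this ⊢
    exact this
  have h1 := hVU (V ⊓ U) le_rfl
  rw [mres_id] at h1
  have hres : Function.Bijective (mres P (inf_le_left : V ⊓ U ≤ V)) := by
    exact mres_bijective_of_eq' L (j.preimage_mono inf_le_left) fun t ht => ⟨ht, ⟨t, rfl⟩⟩
  refine (Function.Bijective.of_comp_iff' hres _).1 ?_
  have e1 : (mres P (inf_le_left : V ⊓ U ≤ V)) ∘ (fun r : Γ(X, V) => r • mres P hV (mres P hWD n)) =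
      (fun r : Γ(X, V ⊓ U) => r • mres P ((inf_le_left.trans hV).trans hWD) n) ∘
        (X.presheaf.map (homOfLE (inf_le_left : V ⊓ U ≤ V)).op) := by
    funext r
    simp only [Function.comp_apply, mres_smul, mres_mres]
  rw [e1]
  exact h1.comp (hrb V)

/-- A closed subset with parafactorial stalks gives a parafactorial pair. -/
theorem pf_of_stalks {U : X.Opens} (h : ∀ x : X, x ∉ U → ParaF.IsParafactorialLocalRing (X.presheaf.stalk x)) :
    PF U := ⟨rb_of_stalks h, fun V L hL => by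
  refine isInvertible_push_of_stalks _ (fun v hv => ?_) L hL
  have hvU : v.1 ∉ U := fun h' => hv (by
    rw [Scheme.opensRange_homOfLE]
    exact ⟨v.2, h'⟩)
  exact isParafactorial_of_iso (X.presheaf.stalk v.1) (asIso (V.ι.stalkMap v)) (h v.1 hvU)⟩

/-- Picard groups of opens of limits are trivial when invertible modules extend at all stages. -/
theorem picTrivial_opensCone {I : Type u} [SmallCategory I] [IsCofiltered I] (D : I ⥤ Scheme.{u}) (c : Cone D)
    (hc : IsLimit c) (hD : ∀ {a b : I} (f : a ⟶ b), IsAffineHom (D.map f))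
    (hN : ∀ i, AlgebraicGeometry.IsNoetherian (D.obj i)) (i₀ : I) (U₀ : (D.obj i₀).Opens)
    (hext : ∀ k : Over i₀, PF (D.map k.hom ⁻¹ᵁ U₀))
    (hpt : ParaF.PicTrivial c.pt) : ParaF.PicTrivial ((c.π.app i₀) ⁻¹ᵁ U₀ : Scheme.{u}) := by
  let DU := opensDiagram D i₀ U₀
  haveI := fun {a b : I} (f : a ⟶ b) => hD f
  haveI : ∀ k : Over i₀, CompactSpace (DU.obj k) := fun k =>
    haveI := hN k.left
    isCompact_iff_compactSpace.1 (NoetherianSpace.isCompact _)
  haveI : ∀ k : Over i₀, QuasiSeparatedSpace (DU.obj k) := fun k =>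
    haveI := hN k.left
    inferInstanceAs (QuasiSeparatedSpace (D.map k.hom ⁻¹ᵁ U₀).toScheme)
  haveI : ∀ (a b : Over i₀) (f : a ⟶ b), IsAffineHom (DU.map f) := fun a b f => by
    let ιa := (opensDiagramι D i₀ U₀).app a
    let ιb := (opensDiagramι D i₀ U₀).app b
    haveI : IsOpenImmersion ιa := inferInstanceAs (IsOpenImmersion (D.map a.hom ⁻¹ᵁ U₀).ι)
    haveI : IsOpenImmersion ιb := inferInstanceAs (IsOpenImmersion (D.map b.hom ⁻¹ᵁ U₀).ι)
    have h1 : (D.map f.left) ⁻¹ᵁ ιb.opensRange = ιa.opensRange := by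
      rw [show ιb.opensRange = D.map b.hom ⁻¹ᵁ U₀ from Scheme.Opens.opensRange_ι _,
        show ιa.opensRange = D.map a.hom ⁻¹ᵁ U₀ from Scheme.Opens.opensRange_ι _,
        ← Scheme.Hom.comp_preimage, ← D.map_comp, Over.w f]
    exact MorphismProperty.of_isPullback (P := @IsAffineHom)
      (IsOpenImmersion.isPullback (DU.map f) ιa ιb (D.map f.left) ((opensDiagramι D i₀ U₀).naturality f).symm h1).flip
      (hD f.left)
  intro L hL
  obtain ⟨k, ⟨_, M, rfl, hM⟩, hk⟩ := LimShf14.exists_picSet_rep DU (opensCone D c i₀ U₀)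
    (isLimitOpensCone D c hc i₀ U₀) ⟨PicF.cl L, L, rfl, hL⟩
  obtain ⟨eL⟩ := LimShf14.iso_of_cl_eq hk
  let W := D.map k.hom ⁻¹ᵁ U₀
  let E := (Scheme.Modules.pushforward W.ι).obj M
  have hE : PicF.IsInvertible E :=
    (hext k).push (𝟙 _) W.ι (by rw [Scheme.Opens.opensRange_ι]; rfl) M hM
  obtain ⟨e0⟩ := hpt _ (Twist.isInvertible_pullback (c.π.app k.left) hE)
  have hsq : (opensCone D c i₀ U₀).π.app k ≫ W.ι = ((c.π.app i₀) ⁻¹ᵁ U₀).ι ≫ c.π.app k.left := by
    simp [opensCone, W]
  exact ⟨eL.symm ≪≫ (Scheme.Modules.pullback _).mapIso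
      ((ParaF27.counitIso W.ι M).symm ≪≫ (Scheme.Modules.restrictFunctorIsoPullback W.ι).app E) ≪≫
    (Scheme.Modules.pullbackComp _ W.ι).app E ≪≫ (Scheme.Modules.pullbackCongr hsq).app E ≪≫
    ((Scheme.Modules.pullbackComp _ (c.π.app k.left)).app E).symm ≪≫
    (Scheme.Modules.pullback _).mapIso e0 ≪≫ Twist.pullbackUnitIso _⟩

theorem picTrivial_local (A : Type u) [CommRing A] [IsLocalRing A] : ParaF.PicTrivial (Spec (CommRingCat.of A)) :=
  fun M hM => by
    obtain ⟨t, ht⟩ := exists_isGen_local A hM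
    exact nonempty_iso_structure_of_gen t fun q => ⟨⊤, trivial, by rwa [mres_id]⟩

theorem preimage_punctured (y : X) :
    X.fromSpecStalk y ⁻¹ᵁ ⟨(closure {y})ᶜ, isClosed_closure.isOpen_compl⟩ = FEt.puncturedSpec (X.presheaf.stalk y) := by
  ext q
  have hq : X.fromSpecStalk y q ⤳ y := Scheme.range_fromSpecStalk.le ⟨q, rfl⟩
  show X.fromSpecStalk y q ∉ closure {y} ↔ q ≠ closedPoint _
  rw [← specializes_iff_mem_closure, not_iff_not]
  constructor
  · intro h1
    refine (X.fromSpecStalk y).isEmbedding.injective ?_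
    rw [Scheme.fromSpecStalk_closedPoint]
    exact (hq.antisymm h1).eq
  · rintro rfl
    rw [Scheme.fromSpecStalk_closedPoint]

theorem isParafactorial_of_depth_pic (A : Type u) [CommRing A] [IsLocalRing A] [IsNoetherianRing A]
    (hd : (2 : ℕ∞) ≤ LocCoh.depth A A) {P : (Spec (CommRingCat.of A)).Opens} (hP : P = FEt.puncturedSpec A)
    (hpic : ParaF.PicTrivial (P : Scheme.{u})) : ParaF.IsParafactorialLocalRing A := by
  subst hP
  exact (isParafactorialLocalRing_iff A).2
    ⟨map_bij_congr rfl (top_inf_eq (FEt.puncturedSpec A)) (rb_punctured_of_depth A hd ⊤) _, hpic⟩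

/-- Stalks of a parafactorial pair are parafactorial. -/
theorem isParafactorial_stalk_of_pf {U : X.Opens} (h : PF U) {y : X} (hy : y ∉ U) :
    ParaF.IsParafactorialLocalRing (X.presheaf.stalk y) := by
  let A : Type u := X.presheaf.stalk y
  let U' : X.Opens := ⟨(closure {y})ᶜ, isClosed_closure.isOpen_compl⟩
  have hle : U ≤ U' := fun x hx hxy => hy ((specializes_iff_mem_closure.2 hxy).mem_open U.2 hx)
  have h' : PF U' := h.mono hle
  have hd : (2 : ℕ∞) ≤ LocCoh.depth A A := by
    have := LocCohZQ.two_le_depth_of_bijective U' (Coh.structureModule X) (M1.isCoh_structureModule X)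
      (fun V => h'.1 V) y (fun hy' => hy' (subset_closure rfl))
    rwa [depth_structureModule] at this
  obtain ⟨V, hV, hyV, -⟩ := Opens.isBasis_iff_nbhd.1 X.isBasis_affineOpens (show y ∈ (⊤ : X.Opens) from trivial)
  let W : X.affineOpens := ⟨V, hV⟩
  let I := LimH13.Nhd.Idx y W
  haveI : Nonempty I := ⟨⟨1, by rw [Scheme.basicOpen_of_isUnit _ isUnit_one]; exact hyV⟩⟩
  haveI := LimH13.Nhd.isDirected y W
  haveI : IsFiltered I := isFiltered_of_directed_le_nonempty _
  obtain ⟨i₀⟩ : Nonempty Iᵒᵖ := IsCofiltered.nonempty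
  let Di : X.Opens := X.basicOpen i₀.unop.1
  have hext : ∀ k : Over i₀, PF ((LimH13.Nhd.diag y W).map k.hom ⁻¹ᵁ (Di.ι ⁻¹ᵁ U')) := fun k => by
    have e : (X.basicOpen k.left.unop.1).ι = (LimH13.Nhd.diag y W).map k.hom ≫ Di.ι :=
      (Scheme.homOfLE_ι X ((LimH13.Nhd.le_iff y W).1 k.hom.unop.le)).symm
    have := h'.preimage (X.basicOpen k.left.unop.1).ι
    rw [e] at this
    exact this
  have hN : ∀ i, AlgebraicGeometry.IsNoetherian ((LimH13.Nhd.diag y W).obj i) := fun i => by
    haveI : IsAffine (X.basicOpen i.unop.1).toScheme := hV.basicOpen _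
    exact ({ } : AlgebraicGeometry.IsNoetherian (X.basicOpen i.unop.1).toScheme)
  have hpic := picTrivial_opensCone (LimH13.Nhd.diag y W) (LimH13.Nhd.cone y W) (LimH13.Nhd.isLimit y W hyV)
    (fun f => LimH13.Nhd.isAffineHom_map y W f) hN i₀ (Di.ι ⁻¹ᵁ U') hext (picTrivial_local A)
  have hP : (LimH13.Nhd.cone y W).π.app i₀ ⁻¹ᵁ (Di.ι ⁻¹ᵁ U') = FEt.puncturedSpec A := by
    refine Eq.trans ?_ (preimage_punctured y)
    exact congrArg (· ⁻¹ᵁ U') (Scheme.Opens.fromSpecStalkOfMem_ι Di y i₀.unop.2)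
  exact isParafactorial_of_depth_pic A hd hP hpic

/-- Parafactoriality of pairs is stalkwise. -/
theorem pair_iff_stalks (Y : Closeds X) :
    ParaF.IsParafactorialPair X Y ↔ ∀ y : X, y ∈ Y → ParaF.IsParafactorialLocalRing (X.presheaf.stalk y) :=
  (pair_iff Y).trans ⟨fun h y hy => isParafactorial_stalk_of_pf h (fun h' => h' hy),
    fun h => pf_of_stalks fun x hx => h x (not_not.1 hx)⟩

end Groth.Agent.ParaFDesc27
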