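import Groth.Agent.Lib.ParaFDesc27.DescentFamily
import Groth.Agent.Lib.ParaF27.Res
import Groth.Agent.S1575
import Groth.Agent.Lib.FlatDepth.FibreStalk
import Groth.Agent.Lib.FlatDepth.RkFlat
import Groth.Agent.Lib.Cyc26.Stalk

/-!
# Extensions of invertible modules across big opens and flat base change
-/

set_option autoImplicit false
set_option linter.style.haveILetI false
set_option backward.isDefEq.respectTransparency false

universe u

open CategoryTheory CategoryTheory.Limits AlgebraicGeometry TopologicalSpace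

noncomputable section

namespace Groth.Agent.ParaFDesc27

open M1 ParaF27

variable {X X' : Scheme.{u}} [IsLocallyNoetherian X] [IsLocallyNoetherian X']

theorem two_le_depth_of_flat (φ : X' ⟶ X) [Flat φ] (x : X')
    (h : (2 : ℕ∞) ≤ LocCoh.depth (X.presheaf.stalk (φ x)) (X.presheaf.stalk (φ x))) :
    (2 : ℕ∞) ≤ LocCoh.depth (X'.presheaf.stalk x) (X'.presheaf.stalk x) := by
  rw [(FlatDepth.stalk_invariants φ x).1]
  exact h.trans le_self_add

/-- An invertible module is the direct image of its restriction to a big open. -/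
theorem isIso_unit_of_depth (V : X.Opens)
    (hV : ∀ x : X, x ∉ V → (2 : ℕ∞) ≤ LocCoh.depth (X.presheaf.stalk x) (X.presheaf.stalk x))
    {M : X.Modules} (hM : PicF.IsInvertible M) :
    IsIso ((Scheme.Modules.restrictAdjunction V.ι).unit.app M) := by
  refine isIso_unit V.ι ?_ hM
  rw [Scheme.Opens.opensRange_ι]
  refine fun W => S1575.result X (Coh.structureModule X) (M1.isCoh_structureModule X) V (fun x hx => ?_) W
  have e := DepthLib.idealDepth_congr (I := IsLocalRing.maximalIdeal (X.presheaf.stalk x)) (LinearEquiv.ofBijective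
    (LinearMap.toSpanSingleton (X.presheaf.stalk x) ((Coh.structureModule X).presheaf.stalk x)
      ((Coh.structureModule X).presheaf.germ ⊤ x trivial (one ⊤)))
    (Cyc26.structureModule_stalk_bijective x))
  exact (hV x hx).trans_eq e

/-- The pullback of the direct image from a big open is the extension of the pullback. -/
theorem nonempty_pullback_push_iso (φ : X' ⟶ X) [Flat φ] (V : X.Opens)
    (hV : ∀ x : X, x ∉ V → (2 : ℕ∞) ≤ LocCoh.depth (X.presheaf.stalk x) (X.presheaf.stalk x))
    {L : (V : Scheme.{u}).Modules} (hL : PicF.IsInvertible L) {M : X'.Modules} (hM : PicF.IsInvertible M)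
    (e : (Scheme.Modules.pullback (φ ⁻¹ᵁ V).ι).obj M ≅ (Scheme.Modules.pullback (φ ∣_ V)).obj L) :
    Nonempty ((Scheme.Modules.pullback φ).obj ((Scheme.Modules.pushforward V.ι).obj L) ≅ M) := by
  haveI : Coh.IsQCoh L := Twist.isQCoh_of_isInvertible hL
  have hsq := isPullback_morphismRestrict φ V
  haveI := isIso_bc0_of_flat hsq L
  haveI := isIso_unit_of_depth (φ ⁻¹ᵁ V) (fun x hx => two_le_depth_of_flat φ x (hV _ hx)) hM
  exact ⟨asIso (CohBC.bc0 V.ι φ (φ ⁻¹ᵁ V).ι (φ ∣_ V) hsq.w L) ≪≫
    (Scheme.Modules.pushforward (φ ⁻¹ᵁ V).ι).mapIso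
      (e.symm ≪≫ ((Scheme.Modules.restrictFunctorIsoPullback (φ ⁻¹ᵁ V).ι).app M).symm) ≪≫
    (asIso ((Scheme.Modules.restrictAdjunction (φ ⁻¹ᵁ V).ι).unit.app M)).symm⟩

end Groth.Agent.ParaFDesc27
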