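import Groth.Agent.Lib.QcohDesc12.BC
import Mathlib.AlgebraicGeometry.Morphisms.Flat
import Mathlib.LinearAlgebra.TensorProduct.Pi

/-!
# Flat base change of sections over quasi-compact opens with quasi-compact intersections
-/

set_option autoImplicit false
set_option linter.style.haveILetI false
set_option linter.unusedSectionVars false
set_option backward.isDefEq.respectTransparency false
set_option backward.isDefEq.respectTransparency.types false

universe u

open AlgebraicGeometry CategoryTheory Limits TensorProduct TopologicalSpace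

noncomputable section

namespace Groth.Agent.ParaFDesc27

open ModLimH13 QcohDesc12

variable {S Xk Y Z : Scheme.{u}} {fk : Xk ⟶ S} {h : Y ⟶ S} {a : Z ⟶ Xk} {g : Z ⟶ Y}
  (H : IsPullback a g fk h) {U : S.Opens} (hU : IsAffineOpen U) {W : Xk.Opens} (hW : IsAffineOpen W)
  (eW : W ≤ fk ⁻¹ᵁ U) (F : Y.Modules)

/-- The coefficient algebra. -/
@[reducible] def coeffAlg : Algebra Γ(S, U) Γ(Xk, W) := (fk.appLE U W eW).hom.toAlgebra

/-- Sections over an open above `U`. -/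
def Sec (U : S.Opens) (h : Y ⟶ S) (F : Y.Modules) (V : {V : Y.Opens // V ≤ h ⁻¹ᵁ U}) : Type u := Γ(F, V.1)

instance (V : {V : Y.Opens // V ≤ h ⁻¹ᵁ U}) : AddCommGroup (Sec U h F V) := inferInstanceAs (AddCommGroup Γ(F, V.1))

instance (V : {V : Y.Opens // V ≤ h ⁻¹ᵁ U}) : Module Γ(S, U) (Sec U h F V) :=
  Module.compHom Γ(F, V.1) (h.appLE U V.1 V.2).hom

/-- The underlying section. -/
@[reducible] def Sec.val {V : {V : Y.Opens // V ≤ h ⁻¹ᵁ U}} (s : Sec U h F V) : Γ(F, V.1) := s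

/-- Restriction. -/
def secRes {V V' : {V : Y.Opens // V ≤ h ⁻¹ᵁ U}} (hle : V'.1 ≤ V.1) : Sec U h F V →ₗ[Γ(S, U)] Sec U h F V' where
  toFun s := M1.mres F hle (Sec.val F s)
  map_add' _ _ := map_add (M1.mres F hle).hom _ _
  map_smul' r s := by
    show M1.mres F hle (h.appLE U V.1 V.2 r • (Sec.val F s)) =
      h.appLE U V'.1 V'.2 r • M1.mres F hle (Sec.val F s)
    rw [M1.mres_smul, ← CommRingCat.comp_apply, Scheme.Hom.appLE_map]

/-- `c ⊗ y ↦ a^*c • g^*y`. -/
def bsec (V : {V : Y.Opens // V ≤ h ⁻¹ᵁ U}) :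
    letI : Algebra Γ(S, U) Γ(Xk, W) := coeffAlg eW
    Γ(Xk, W) ⊗[Γ(S, U)] Sec U h F V →+ Γ((Scheme.Modules.pullback g).obj F, a ⁻¹ᵁ W ⊓ g ⁻¹ᵁ V.1) :=
  letI : Algebra Γ(S, U) Γ(Xk, W) := coeffAlg eW
  letI : Module Γ(S, U) Γ(F, V.1) := Module.compHom _ (h.appLE U V.1 V.2).hom
  bcSec (a := a) (g := g) eW V.2 inf_le_left inf_le_right H.w F (fun _ => rfl) (fun _ _ => rfl)

theorem bsec_tmul (V : {V : Y.Opens // V ≤ h ⁻¹ᵁ U}) (c : Γ(Xk, W)) (y : Sec U h F V) :
    letI : Algebra Γ(S, U) Γ(Xk, W) := coeffAlg eW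
    bsec H eW F V (c ⊗ₜ y) = a.appLE W (a ⁻¹ᵁ W ⊓ g ⁻¹ᵁ V.1) inf_le_left c • res' g F inf_le_right (Sec.val F y) :=
  letI : Algebra Γ(S, U) Γ(Xk, W) := coeffAlg eW; letI : Module Γ(S, U) Γ(F, V.1) := Module.compHom _ (h.appLE U V.1 V.2).hom; bcSec_tmul (a := a) (g := g) eW V.2 inf_le_left inf_le_right H.w F (fun _ => rfl) (fun _ _ => rfl) c y

theorem bsec_natural {V V' : {V : Y.Opens // V ≤ h ⁻¹ᵁ U}} (hle : V'.1 ≤ V.1) :
    letI : Algebra Γ(S, U) Γ(Xk, W) := coeffAlg eW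
    ∀ z : Γ(Xk, W) ⊗[Γ(S, U)] Sec U h F V,
      M1.mres _ (inf_le_inf_left _ (g.preimage_mono hle)) (bsec H eW F V z) =
        bsec H eW F V' ((secRes F hle).lTensor _ z) := by
  letI : Algebra Γ(S, U) Γ(Xk, W) := coeffAlg eW
  intro z
  induction z using TensorProduct.induction_on with
  | zero => simp only [map_zero]
  | add x y hx hy => simp only [map_add, hx, hy]
  | tmul c y =>
    rw [LinearMap.lTensor_tmul, bsec_tmul, bsec_tmul, M1.mres_smul, mres_res', ← CommRingCat.comp_apply,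
      Scheme.Hom.appLE_map]
    exact congrArg _ (res'_mres g F hle inf_le_right (Sec.val F y)).symm

include hU hW in
theorem bsec_bijective_affine [Coh.IsQCoh F] (V : {V : Y.Opens // V ≤ h ⁻¹ᵁ U}) (hV : IsAffineOpen V.1) :
    Function.Bijective (bsec H eW F V) := by
  letI : Algebra Γ(S, U) Γ(Xk, W) := coeffAlg eW
  letI : Module Γ(S, U) Γ(F, V.1) := Module.compHom _ (h.appLE U V.1 V.2).hom
  exact bcSec_bijective (a := a) (g := g) eW V.2 inf_le_left inf_le_right H.w F (fun _ => rfl) (fun _ _ => rfl)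
    H hU hW hV rfl

/-- Bijectivity glues. -/
theorem bsec_bijective_glue [Flat fk] (hU : IsAffineOpen U) (hW : IsAffineOpen W) {ι : Type u} [Finite ι]
    (V : {V : Y.Opens // V ≤ h ⁻¹ᵁ U}) (P : ι → {V : Y.Opens // V ≤ h ⁻¹ᵁ U}) (hle : ∀ i, (P i).1 ≤ V.1)
    (hcov : V.1 ≤ ⨆ i, (P i).1) (h1 : ∀ i, Function.Bijective (bsec H eW F (P i)))
    (h2 : ∀ i j, Function.Injective
      (bsec H eW F ⟨(P i).1 ⊓ (P j).1, inf_le_left.trans (P i).2⟩)) :
    Function.Bijective (bsec H eW F V) := by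
  classical
  haveI := Fintype.ofFinite ι
  letI : Algebra Γ(S, U) Γ(Xk, W) := coeffAlg eW
  haveI : Module.Flat Γ(S, U) Γ(Xk, W) := fk.flat_appLE hU hW eW
  let Q : ι × ι → {V : Y.Opens // V ≤ h ⁻¹ᵁ U} := fun ij => ⟨(P ij.1).1 ⊓ (P ij.2).1, inf_le_left.trans (P ij.1).2⟩
  let L : Sec U h F V →ₗ[Γ(S, U)] (∀ i, Sec U h F (P i)) := LinearMap.pi fun i => secRes F (hle i)
  let D : (∀ i, Sec U h F (P i)) →ₗ[Γ(S, U)] (∀ ij, Sec U h F (Q ij)) :=
    LinearMap.pi fun ij => (secRes F (inf_le_left : (Q ij).1 ≤ (P ij.1).1)) ∘ₗ LinearMap.proj ij.1 -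
      (secRes F (inf_le_right : (Q ij).1 ≤ (P ij.2).1)) ∘ₗ LinearMap.proj ij.2
  have hLinj : Function.Injective L := fun s t hst =>
    M1.modules_eq_of_locally_eq F V.1 (fun i => (P i).1) hle hcov s t fun i => congrFun hst i
  have hex : Function.Exact L D := fun x => by
    constructor
    · intro hx
      obtain ⟨s, hs, -⟩ := TopCat.Sheaf.existsUnique_gluing' ⟨_, F.isSheaf⟩ (fun i => (P i).1) V.1
        (fun i => homOfLE (hle i)) hcov (fun i => (x i : Γ(F, (P i).1)))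
        fun i j => sub_eq_zero.1 (congrFun hx (i, j))
      exact ⟨s, funext hs⟩
    · rintro ⟨s, rfl⟩
      refine funext fun ij => sub_eq_zero.2 ?_
      show M1.mres F _ (M1.mres F _ (Sec.val F s)) = M1.mres F _ (M1.mres F _ (Sec.val F s))
      rw [M1.mres_mres, M1.mres_mres]
  have hLB := Module.Flat.lTensor_preserves_injective_linearMap (M := Γ(Xk, W)) L hLinj
  have hexB := Module.Flat.lTensor_exact Γ(Xk, W) hex
  let πP := TensorProduct.piRight Γ(S, U) Γ(S, U) Γ(Xk, W) (fun i => Sec U h F (P i))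
  let πQ := TensorProduct.piRight Γ(S, U) Γ(S, U) Γ(Xk, W) (fun ij => Sec U h F (Q ij))
  have kL : ∀ z i, πP (L.lTensor _ z) i = (secRes F (hle i)).lTensor _ z := fun z i => by
    induction z using TensorProduct.induction_on with
    | zero => simp
    | add x y hx hy => simp only [map_add, Pi.add_apply, hx, hy]
    | tmul c y => simp [πP, L]
  have kD : ∀ z ij, πQ (D.lTensor _ z) ij =
      (secRes F (inf_le_left : (Q ij).1 ≤ (P ij.1).1)).lTensor _ (πP z ij.1) -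
        (secRes F (inf_le_right : (Q ij).1 ≤ (P ij.2).1)).lTensor _ (πP z ij.2) := fun z ij => by
    induction z using TensorProduct.induction_on with
    | zero => simp
    | add x y hx hy => simp only [map_add, Pi.add_apply, hx, hy]; abel
    | tmul c y => simp [πP, πQ, D, TensorProduct.tmul_sub]
  have hcov' : a ⁻¹ᵁ W ⊓ g ⁻¹ᵁ V.1 ≤ ⨆ i, a ⁻¹ᵁ W ⊓ g ⁻¹ᵁ (P i).1 := fun x hx => by
    obtain ⟨i, hi⟩ := Opens.mem_iSup.1 (hcov hx.2)
    exact Opens.mem_iSup.2 ⟨i, hx.1, hi⟩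
  constructor
  · rw [injective_iff_map_eq_zero]
    intro z hz
    refine hLB (πP.injective (funext fun i => (h1 i).1 ?_))
    rw [kL, ← bsec_natural, hz, map_zero, map_zero, map_zero, Pi.zero_apply, map_zero]
  · intro t
    choose y hy using fun i => (h1 i).2 (M1.mres _ (inf_le_inf_left _ (g.preimage_mono (hle i))) t)
    have hker : D.lTensor _ (πP.symm y) = 0 := by
      refine πQ.injective (funext fun ij => ?_)
      rw [kD, LinearEquiv.apply_symm_apply, map_zero, Pi.zero_apply]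
      refine h2 ij.1 ij.2 ?_
      show bsec H eW F (Q ij) _ = bsec H eW F (Q ij) 0
      rw [map_sub, ← bsec_natural, ← bsec_natural, hy, hy, map_zero, M1.mres_mres, M1.mres_mres, sub_self]
    obtain ⟨z, hz⟩ := (hexB _).1 hker
    refine ⟨z, M1.modules_eq_of_locally_eq _ _ (fun i => a ⁻¹ᵁ W ⊓ g ⁻¹ᵁ (P i).1)
      (fun i => inf_le_inf_left _ (g.preimage_mono (hle i))) hcov' _ _ fun i => ?_⟩
    rw [bsec_natural (hle := hle i), ← kL, hz, LinearEquiv.apply_symm_apply, hy]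

end Groth.Agent.ParaFDesc27
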