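import Groth.Agent.Lib.ParaFDesc27.QcqsBC

/-!
# Global sections of pullbacks along flat base change of affine bases
-/

set_option autoImplicit false
set_option linter.style.haveILetI false
set_option linter.unusedSectionVars false
set_option backward.isDefEq.respectTransparency false
set_option backward.isDefEq.respectTransparency.types false
set_option maxHeartbeats 1000000

universe u

open AlgebraicGeometry CategoryTheory Limits TensorProduct TopologicalSpace

noncomputable section

namespace Groth.Agent.ParaFDesc27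

open ModLimH13 QcohDesc12

variable {X X' S S' : Scheme.{u}} [IsAffine S] [IsAffine S'] {f : X ⟶ S} {g : S' ⟶ S} {r : X' ⟶ X}
  {q : X' ⟶ S'} (hsq : IsPullback r q f g) (F : X.Modules) [Coh.IsQCoh F]

theorem mres_bijective_of_eq' {T : Scheme.{u}} (M : T.Modules) {U V : T.Opens} (h : V ≤ U) (h' : U ≤ V) :
    Function.Bijective (M1.mres M h) :=
  ⟨fun s t hst => by
    have := congrArg (M1.mres M h') hst
    rwa [M1.mres_mres, M1.mres_mres, M1.mres_id, M1.mres_id] at this,
   fun t => ⟨M1.mres M h' t, by rw [M1.mres_mres, M1.mres_id]⟩⟩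

include hsq in
/-- Either the source is affine, or the base change is flat and the source qcqs. -/
theorem bsec_bijective_top (h : IsAffine X ∨ (Flat g ∧ QuasiCompact f ∧ QuasiSeparated f)) :
    Function.Bijective (bsec (U := ⊤) (W := ⊤) hsq.flip le_top F ⟨(⊤ : X.Opens), le_top⟩) := by
  rcases h with h | ⟨hg, hf, hf'⟩
  · exact bsec_bijective_affine hsq.flip (isAffineOpen_top S) (isAffineOpen_top S') le_top F _ (isAffineOpen_top X)
  · refine bsec_bijective_of_isCompact hsq.flip (isAffineOpen_top S) (isAffineOpen_top S') le_top F _ ?_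
    exact QuasiCompact.isCompact_preimage (f := f) _ (⊤ : S.Opens).2 (isAffineOpen_top S).isCompact

include hsq in
/-- Global sections of the pullback are combinations of pulled back ones. -/
theorem global_induction (h : IsAffine X ∨ (Flat g ∧ QuasiCompact f ∧ QuasiSeparated f))
    {P : Γ((Scheme.Modules.pullback r).obj F, ⊤) → Prop} (zero : P 0) (add : ∀ s t, P s → P t → P (s + t))
    (smul : ∀ (c : Γ(S', ⊤)) (m : Γ(F, ⊤)), P ((show Γ(X', ⊤) from q.appTop c) •
      (show Γ((Scheme.Modules.pullback r).obj F, ⊤) from M2.pullSec r F m))) (s) : P s := by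
  letI : Algebra Γ(S, ⊤) Γ(S', ⊤) := coeffAlg (fk := g) (U := ⊤) (W := ⊤) le_top
  let G := (Scheme.Modules.pullback r).obj F
  let Z₀ := q ⁻¹ᵁ (⊤ : S'.Opens) ⊓ r ⁻¹ᵁ (⊤ : X.Opens)
  have hZ : (⊤ : X'.Opens) ≤ Z₀ := fun _ _ => ⟨trivial, trivial⟩
  obtain ⟨z, hz⟩ := (bsec_bijective_top hsq F h).2 (M1.mres G le_top s)
  have hs : s = M1.mres G hZ (bsec hsq.flip le_top F ⟨⊤, le_top⟩ z) := by rw [hz, M1.mres_mres, M1.mres_id]
  rw [hs]
  clear hz hs
  induction z using TensorProduct.induction_on with
  | zero => rw [map_zero, map_zero]; exact zero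
  | add a b ha hb => rw [map_add, map_add]; exact add _ _ ha hb
  | tmul c y =>
    rw [bsec_tmul, M1.mres_smul, mres_res']
    convert smul c (Sec.val F y) using 1
    rw [← CommRingCat.comp_apply, Scheme.Hom.appLE_map, res', Scheme.Hom.appLE]
    congr 1
    · exact ConcreteCategory.congr_hom (show q.app ⊤ ≫ X'.presheaf.map _ = q.appTop by
        rw [show (homOfLE _).op = 𝟙 _ from Subsingleton.elim _ _, X'.presheaf.map_id, Category.comp_id]) c
    · exact M1.mres_id _ _ _

end Groth.Agent.ParaFDesc27
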