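import Groth.Agent.Lib.ParaFDesc27.Stalkwise
import Groth.Agent.Lib.ParaFDesc27.BigOpen

/-!
# Invertibility of direct images from big opens is a stalkwise condition
-/

set_option autoImplicit false
set_option linter.style.haveILetI false
set_option backward.isDefEq.respectTransparency false
set_option backward.isDefEq.respectTransparency.types false
set_option maxHeartbeats 1000000

universe u

open CategoryTheory CategoryTheory.Limits AlgebraicGeometry TopologicalSpace IsLocalRing

noncomputable section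

namespace Groth.Agent.ParaFDesc27

open M1 ModLimH13 ParaF27

variable {X : Scheme.{u}} [IsLocallyNoetherian X]

/-- The direct image of an invertible module from a big open is invertible if it is so on every local scheme. -/
theorem isInvertible_push_of_stalk_pullbacks {T : Scheme.{u}} (j : T ⟶ X) [IsOpenImmersion j]
    (hrb : RB j.opensRange) (L : T.Modules) (hL : PicF.IsInvertible L)
    (h : ∀ y : X, y ∉ j.opensRange → PicF.IsInvertible
      ((Scheme.Modules.pullback (X.fromSpecStalk y)).obj ((Scheme.Modules.pushforward j).obj L))) :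
    PicF.IsInvertible ((Scheme.Modules.pushforward j).obj L) := by
  let U := j.opensRange
  haveI hLq : Coh.IsQCoh L := Twist.isQCoh_of_isInvertible hL
  let P := (Scheme.Modules.pushforward j).obj L
  haveI hPq : Coh.IsQCoh P := isQCoh_push j hLq
  -- generators of `P` on opens of the range
  have hPU : ∀ w ∈ U, ∃ (E : X.Opens) (e : Γ(P, E)), w ∈ E ∧ E ≤ U ∧ Twist.IsGen P E e := by
    rintro _ ⟨t, rfl⟩
    obtain ⟨E, e, htE, he⟩ := ProjUP.exists_isGen_of_invertible hL t
    obtain ⟨E', e', hE', he'⟩ := Curve17.exists_isGen_of_restrict j P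
      (M2.isInvertible_of_iso (ParaF27.counitIso j L).symm hL) t
    exact ⟨E' ⊓ U, mres P inf_le_left e', ⟨hE', ⟨t, rfl⟩⟩, inf_le_right, he'.mres inf_le_left⟩
  intro y
  by_cases hyU : y ∈ U
  · obtain ⟨E, e, hyE, -, he⟩ := hPU y hyU
    exact ⟨E, hyE, Twist.nonempty_restrict_iso P E e he⟩
  let A : Type u := X.presheaf.stalk y
  let S : Scheme.{u} := Spec (CommRingCat.of A)
  let g : S ⟶ X := X.fromSpecStalk y
  haveI : Flat g := flat_fromSpecStalk' y
  have hgen : ∀ q : S, g q ⤳ y := fun q => Scheme.range_fromSpecStalk.le ⟨q, rfl⟩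
  obtain ⟨t, ht⟩ := exists_isGen_local A (h y hyU)
  -- a section of `P` near `y` whose pullback generates
  obtain ⟨D, hD, hyD, -⟩ := Opens.isBasis_iff_nbhd.1 X.isBasis_affineOpens (show y ∈ (⊤ : X.Opens) from trivial)
  have hDtop : (⊤ : S.Opens) ≤ g ⁻¹ᵁ D := fun q _ => (hgen q).mem_open D.2 hyD
  haveI : IsLocalRing Γ(S, ⊤) :=
    (Scheme.ΓSpecIso (CommRingCat.of A)).commRingCatIsoToRingEquiv.symm.isLocalRing
  let Gp := (Scheme.Modules.pullback g).obj P
  obtain ⟨n, a, ha, hn⟩ : ∃ (n : Γ(P, D)) (a : Γ(S, ⊤)), IsUnit a ∧ res' g P hDtop n = a • t := by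
    by_contra hno
    have key : ∀ s : Γ(Gp, ⊤), ∃ a ∈ nonunits Γ(S, ⊤), s = a • t := by
      refine pullback_induction g P hDtop hD (isAffineOpen_top S) ⟨0, not_isUnit_zero, (zero_smul _ _).symm⟩ ?_ ?_
      · rintro _ _ ⟨a, ha, rfl⟩ ⟨b, hb, rfl⟩
        exact ⟨a + b, IsLocalRing.nonunits_add ha hb, (add_smul _ _ _).symm⟩
      · intro c s
        obtain ⟨b, hb⟩ := (ht ⊤ le_rfl).2 (res' g P hDtop s)
        dsimp only at hb
        rw [mres_id] at hb
        refine ⟨c * b, fun hu => hno ⟨s, b, isUnit_of_mul_isUnit_right hu, hb.symm⟩, ?_⟩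
        rw [mul_smul, hb]
    obtain ⟨a, ha, hta⟩ := key t
    have h1 : a = 1 := (ht ⊤ le_rfl).1 (by
      show a • mres Gp le_rfl t = (1 : Γ(S, ⊤)) • mres Gp le_rfl t
      rw [mres_id, one_smul, ← hta])
    exact ha (h1 ▸ isUnit_one)
  have hgn : Twist.IsGen Gp (g ⁻¹ᵁ D) (M2.pullSec g P n) := by
    intro V hV
    have he : mres Gp hV (M2.pullSec g P n) = mres Gp (le_top : V ≤ ⊤) (a • t) := by
      rw [← hn]
      exact (mres_mres _ _ _ _).symm
    rw [he, mres_smul]
    simp only [smul_smul]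
    exact (ht V le_top).comp (ha.map (S.presheaf.map (homOfLE (le_top : V ≤ ⊤)).op).hom).unit.mulRight.bijective
  -- the locus where `n` generates
  let Gn : X.Opens := ⨆ Z : {Z : X.Opens // ∃ hle : Z ≤ D, Twist.IsGen P Z (mres P hle n)}, Z.1
  have hGn : ∀ q : S, g q ∈ U → g q ∈ Gn := fun q hq => by
    obtain ⟨E, e, hqE, -, he⟩ := hPU _ hq
    obtain ⟨W, hle, hqW, hW⟩ := exists_isGen_of_pullback g hgn q ((hgen q).mem_open D.2 hyD) hqE he
    exact Opens.mem_iSup.2 ⟨⟨W, hle, hW⟩, hqW⟩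
  haveI := IsLocallyNoetherian.component_noetherian (X := X) ⟨D, hD⟩
  haveI : NoetherianSpace D := noetherianSpace_of_isAffineOpen D hD
  haveI : QuasiSober D := D.2.isOpenEmbedding_subtypeVal.quasiSober
  let C : Set D := {w | w.1 ∈ U ∧ w.1 ∉ Gn}
  let OU : Opens D := ⟨{w | w.1 ∈ U}, U.2.preimage continuous_subtype_val⟩
  have hyC : (⟨y, hyD⟩ : D) ∉ closure C := fun hc => by
    obtain ⟨w, ⟨hwU, hwG⟩, hwy⟩ := exists_specializes_mem (O := OU) (fun w hw => hw.1) (by
      rintro w ⟨hw, hwU⟩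
      refine ⟨hwU, fun hwG => ?_⟩
      obtain ⟨v, hv, hv'⟩ := mem_closure_iff.1 hw {v | v.1 ∈ Gn} (Gn.2.preimage continuous_subtype_val) hwG
      exact hv'.2 hv) hc
    have : w.1 ∈ Set.range g := Scheme.range_fromSpecStalk.ge ((subtype_specializes_iff _ _).1 hwy)
    obtain ⟨q, hq⟩ := this
    exact hwG (hq ▸ hGn q (hq ▸ hwU))
  let W : X.Opens := ⟨Subtype.val '' (closure C)ᶜ, D.2.isOpenEmbedding_subtypeVal.isOpenMap _ isClosed_closure.isOpen_compl⟩
  have hWD : W ≤ D := by rintro _ ⟨w, -, rfl⟩; exact w.2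
  have hWU : ∀ w ∈ W, w ∈ U → w ∈ Gn := by
    rintro _ ⟨w, hw, rfl⟩ hwU
    by_contra hwG
    exact hw (subset_closure ⟨hwU, hwG⟩)
  refine ⟨W, ⟨⟨y, hyD⟩, hyC, rfl⟩, Twist.nonempty_restrict_iso P W (mres P hWD n) fun V hV => ?_⟩
  have hVU : Twist.IsGen P (V ⊓ U) (mres P ((inf_le_left.trans hV).trans hWD) n) := by
    refine Twist.isGen_of_stalk fun w hw => ?_
    obtain ⟨⟨Z, hle, hZ⟩, hwZ⟩ := Opens.mem_iSup.1 (hWU w (hV hw.1) hw.2)
    have := hZ.stalk hwZ
    rw [germ_mres] at this ⊢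
    exact this
  have h1 := hVU (V ⊓ U) le_rfl
  rw [mres_id] at h1
  have hres : Function.Bijective (mres P (inf_le_left : V ⊓ U ≤ V)) := by
    exact mres_bijective_of_eq' L (j.preimage_mono inf_le_left) fun t ht => ⟨ht, ⟨t, rfl⟩⟩
  refine (Function.Bijective.of_comp_iff' hres _).1 ?_
  have e1 : (mres P (inf_le_left : V ⊓ U ≤ V)) ∘ (fun r : Γ(X, V) => r • mres P hV (mres P hWD n)) =
      (fun r : Γ(X, V ⊓ U) => r • mres P ((inf_le_left.trans hV).trans hWD) n) ∘
        (X.presheaf.map (homOfLE (inf_le_left : V ⊓ U ≤ V)).op) := by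
    funext r
    simp only [Function.comp_apply, mres_smul, mres_mres]
  rw [e1]
  exact h1.comp (hrb V)

/-- Invertibility of the extension from a big open descends along flat surjections. -/
theorem isInvertible_push_of_flat_surjective {X' : Scheme.{u}} [IsLocallyNoetherian X'] (φ : X' ⟶ X) [Flat φ]
    [Surjective φ] (V : X.Opens)
    (hV : ∀ x : X, x ∉ V → (2 : ℕ∞) ≤ LocCoh.depth (X.presheaf.stalk x) (X.presheaf.stalk x))
    {L : (V : Scheme.{u}).Modules} (hL : PicF.IsInvertible L)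
    (h : PicF.IsInvertible ((Scheme.Modules.pullback φ).obj ((Scheme.Modules.pushforward V.ι).obj L))) :
    PicF.IsInvertible ((Scheme.Modules.pushforward V.ι).obj L) := by
  let P := (Scheme.Modules.pushforward V.ι).obj L
  refine isInvertible_push_of_stalk_pullbacks V.ι ?_ L hL fun y _ => ?_
  · rw [Scheme.Opens.opensRange_ι]
    intro W
    exact S1575.result X (Coh.structureModule X) (M1.isCoh_structureModule X) V
      (fun x hx => (depth_structureModule x).symm ▸ hV x hx) W
  obtain ⟨x', rfl⟩ := Surjective.surj (f := φ) y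
  algebraize [(φ.stalkMap x').hom]
  haveI : Module.Flat (X.presheaf.stalk (φ x')) (X'.presheaf.stalk x') := Flat.stalkMap φ x'
  haveI : IsLocalHom (algebraMap (X.presheaf.stalk (φ x')) (X'.presheaf.stalk x')) := φ.toLRSHom.prop x'
  have hff := (flat_and_surjective_SpecMap_iff (φ.stalkMap x')).2
    ((RingHom.faithfullyFlat_algebraMap_iff (R := X.presheaf.stalk (φ x')) (S := X'.presheaf.stalk x')).2
      (Module.FaithfullyFlat.of_flat_of_isLocalHom))
  haveI := hff.1
  haveI := hff.2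
  have hPq : Coh.IsQCoh P := by
    haveI hLq : Coh.IsQCoh L := Twist.isQCoh_of_isInvertible hL
    exact isQCoh_push V.ι hLq
  refine isInvertible_of_pullback (Spec.map (φ.stalkMap x')) (M1.isQCoh_pullback _ hPq) ?_
  exact M2.isInvertible_of_iso
    (((Scheme.Modules.pullbackComp _ _).app P) ≪≫
      (Scheme.Modules.pullbackCongr (Scheme.SpecMap_stalkMap_fromSpecStalk φ)).app P ≪≫
      ((Scheme.Modules.pullbackComp _ φ).app P).symm).symm
    (Twist.isInvertible_pullback (X'.fromSpecStalk x') h)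

end Groth.Agent.ParaFDesc27
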