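import Groth.Agent.Lib.ParaFDesc27.GlobalBC
import Groth.Agent.Lib.ParaFDesc27.PicDescent
import Groth.Agent.Lib.PurityDesc25.Affine
import Mathlib.RingTheory.LocalRing.Module

/-!
# Descent of trivial invertible modules when global functions are semilocal
-/

set_option autoImplicit false
set_option linter.style.haveILetI false
set_option backward.isDefEq.respectTransparency false
set_option backward.isDefEq.respectTransparency.types false
set_option maxHeartbeats 1000000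

universe u

open AlgebraicGeometry CategoryTheory Limits TopologicalSpace TensorProduct

noncomputable section

namespace Groth.Agent.ParaFDesc27

open M1 ModLimH13

/-- An element of a finite flat module which is free of rank one after a faithfully flat base change,
generating it after the base change, exists over a semilocal ring. -/
theorem exists_generator_of_baseChange {R R' M : Type u} [CommRing R] [CommRing R'] [Algebra R R']
    [Module.FaithfullyFlat R R'] [Finite (MaximalSpectrum R)] [AddCommGroup M] [Module R M]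
    (e : R' ⊗[R] M ≃ₗ[R'] R') : ∃ s : M, ∀ z : R' ⊗[R] M, ∃ c : R', c ⊗ₜ s = z := by
  haveI : Module.Finite R' (R' ⊗[R] M) := Module.Finite.equiv e.symm
  haveI : Module.Finite R M := Module.Finite.of_finite_tensorProduct_of_faithfullyFlat R'
  haveI : Module.Flat R' (R' ⊗[R] M) := Module.Flat.of_linearEquiv e
  haveI : Module.Flat R M := Module.Flat.of_flat_tensorProduct R M R'
  have rk : ∀ P : MaximalSpectrum R, Module.finrank (R ⧸ P.1) ((R ⧸ P.1) ⊗[R] M) = 1 := fun P => by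
    letI := Ideal.Quotient.field P.1
    let K := R ⧸ P.1
    let K' := R' ⧸ P.1.map (algebraMap R R')
    haveI : Nontrivial K' := Ideal.Quotient.nontrivial_iff.2 fun h => by
      have := congrArg (Ideal.comap (algebraMap R R')) h
      rw [Ideal.comap_map_eq_self_of_faithfullyFlat, Ideal.comap_top] at this
      exact P.2.ne_top this
    haveI : IsScalarTower R K K' := IsScalarTower.of_algebraMap_eq fun _ => rfl
    let e' : K' ⊗[K] (K ⊗[R] M) ≃ₗ[K'] K' :=
      (AlgebraTensorModule.cancelBaseChange R K K' K' M).trans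
        ((AlgebraTensorModule.cancelBaseChange R R' K' K' M).symm.trans
          ((AlgebraTensorModule.congr (LinearEquiv.refl K' K') e).trans (AlgebraTensorModule.rid R' K' K')))
    rw [← Module.finrank_baseChange (R := K') (S := K) (M' := K ⊗[R] M), e'.finrank_eq, Module.finrank_self]
  obtain ⟨b⟩ := Module.nonempty_basis_of_flat_of_finrank_eq R M 1 rk
  refine ⟨b 0, fun z => ?_⟩
  induction z using TensorProduct.induction_on with
  | zero => exact ⟨0, TensorProduct.zero_tmul _ _⟩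
  | add x y hx hy =>
    obtain ⟨c, rfl⟩ := hx
    obtain ⟨d, rfl⟩ := hy
    exact ⟨c + d, TensorProduct.add_tmul _ _ _⟩
  | tmul c m =>
    refine ⟨b.repr m 0 • c, ?_⟩
    conv_rhs => rw [← b.sum_repr m]
    simp [TensorProduct.smul_tmul]

variable {X X' S S' : Scheme.{u}} [IsAffine S] [IsAffine S'] {f : X ⟶ S} {g : S' ⟶ S} {r : X' ⟶ X}
  {q : X' ⟶ S'} (hsq : IsPullback r q f g) [QuasiCompact f] [QuasiSeparated f] [Flat g] [Surjective g]

include hsq in
theorem nonempty_iso_structure_of_semilocal (hsl : Finite (MaximalSpectrum Γ(X, ⊤))) {L : X.Modules}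
    (hL : PicF.IsInvertible L) (e : (Scheme.Modules.pullback r).obj L ≅ Coh.structureModule X') :
    Nonempty (L ≅ Coh.structureModule X) := by
  haveI : Coh.IsQCoh L := Twist.isQCoh_of_isInvertible hL
  haveI : Surjective r := MorphismProperty.of_isPullback hsq.flip ‹Surjective g›
  let G := (Scheme.Modules.pullback r).obj L
  have hgT : g.appLE (⊤ : S.Opens) (⊤ : S'.Opens) le_top = g.appTop := (Scheme.Hom.app_eq_appLE (f := g)).symm
  have hfT : f.appLE (⊤ : S.Opens) (⊤ : X.Opens) le_top = f.appTop := (Scheme.Hom.app_eq_appLE (f := f)).symm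
  letI : Algebra Γ(S, ⊤) Γ(S', ⊤) := coeffAlg (fk := g) (U := ⊤) (W := ⊤) le_top
  letI : Algebra Γ(S, ⊤) Γ(X, ⊤) := (f.appLE (⊤ : S.Opens) (⊤ : X.Opens) le_top).hom.toAlgebra
  letI : Algebra Γ(X, ⊤) Γ(X', ⊤) := r.appTop.hom.toAlgebra
  letI : Algebra Γ(S', ⊤) Γ(X', ⊤) := q.appTop.hom.toAlgebra
  letI : Algebra Γ(S, ⊤) Γ(X', ⊤) :=
    ((r.appTop.hom).comp (f.appLE (⊤ : S.Opens) (⊤ : X.Opens) le_top).hom).toAlgebra
  haveI : IsScalarTower Γ(S, ⊤) Γ(X, ⊤) Γ(X', ⊤) := IsScalarTower.of_algebraMap_eq fun _ => rfl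
  haveI : IsScalarTower Γ(S, ⊤) Γ(S', ⊤) Γ(X', ⊤) := IsScalarTower.of_algebraMap_eq fun z => by
    show r.appTop (f.appLE ⊤ ⊤ le_top z) = q.appTop (g.appLE ⊤ ⊤ le_top z)
    rw [hgT, hfT]
    exact ConcreteCategory.congr_hom (show f.appTop ≫ r.appTop = g.appTop ≫ q.appTop by
      rw [← Scheme.Hom.comp_appTop, ← Scheme.Hom.comp_appTop, hsq.w]) z
  haveI hpo : Algebra.IsPushout Γ(S, ⊤) Γ(X, ⊤) Γ(S', ⊤) Γ(X', ⊤) := by
    refine CommRingCat.isPushout_iff_isPushout.1 ?_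
    show IsPushout (f.appLE ⊤ ⊤ le_top) (g.appLE ⊤ ⊤ le_top) r.appTop q.appTop
    rw [hgT, hfT]
    exact PurityDesc25.isPushout_appTop hsq
  haveI : Module.FaithfullyFlat Γ(S, ⊤) Γ(S', ⊤) := by
    have h := (Flat.flat_and_surjective_iff_faithfullyFlat_of_isAffine g).1 ⟨inferInstance, inferInstance⟩
    rw [← hgT] at h
    exact h
  haveI : Module.FaithfullyFlat Γ(X, ⊤) Γ(X', ⊤) :=
    Module.FaithfullyFlat.of_linearEquiv _ _ (Algebra.IsPushout.equiv Γ(S, ⊤) Γ(X, ⊤) Γ(S', ⊤) Γ(X', ⊤)).toLinearEquiv.symm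
  let M := Γ(L, ⊤)
  letI : Module Γ(S, ⊤) M := Module.compHom M (f.appLE (⊤ : S.Opens) (⊤ : X.Opens) le_top).hom
  haveI : IsScalarTower Γ(S, ⊤) Γ(X, ⊤) M := IsScalarTower.of_algebraMap_smul fun _ _ => rfl
  letI : Module Γ(X, ⊤) Γ(G, ⊤) := Module.compHom _ r.appTop.hom
  haveI : IsScalarTower Γ(X, ⊤) Γ(X', ⊤) Γ(G, ⊤) := IsScalarTower.of_algebraMap_smul fun _ _ => rfl
  let φ : M →ₗ[Γ(X, ⊤)] Γ(G, ⊤) :=
    { toFun := fun m => M2.pullSec r L m
      map_add' := fun a b => M2.pullSec_add r L a b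
      map_smul' := fun c m => M2.pullSec_smul r L c m }
  let Φ : Γ(X', ⊤) ⊗[Γ(X, ⊤)] M →ₗ[Γ(X', ⊤)] Γ(G, ⊤) := φ.liftBaseChange _
  haveI : Algebra.IsPushout Γ(S, ⊤) Γ(S', ⊤) Γ(X, ⊤) Γ(X', ⊤) := Algebra.IsPushout.symm hpo
  let κ := (Algebra.IsPushout.cancelBaseChange Γ(S, ⊤) Γ(S', ⊤) Γ(X, ⊤) Γ(X', ⊤) M).symm
  have hΦ : Function.Bijective Φ := by
    let Z₀ := q ⁻¹ᵁ (⊤ : S'.Opens) ⊓ r ⁻¹ᵁ (⊤ : X.Opens)
    have hZ : (⊤ : X'.Opens) ≤ Z₀ := fun _ _ => ⟨trivial, trivial⟩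
    have hb := (mres_bijective_of_eq' G hZ le_top).comp
      (bsec_bijective_top hsq L (Or.inr ⟨inferInstance, inferInstance, inferInstance⟩))
    let V₀ : {V : X.Opens // V ≤ f ⁻¹ᵁ (⊤ : S.Opens)} := ⟨⊤, le_top⟩
    let σ : Sec (⊤ : S.Opens) f L V₀ ≃ₗ[Γ(S, ⊤)] M :=
      { toFun := fun y => Sec.val L y
        invFun := fun y => y
        left_inv := fun _ => rfl
        right_inv := fun _ => rfl
        map_add' := fun _ _ => rfl
        map_smul' := fun _ _ => rfl }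
    let κ' : Γ(S', ⊤) ⊗[Γ(S, ⊤)] Sec (⊤ : S.Opens) f L V₀ →+ Γ(X', ⊤) ⊗[Γ(X, ⊤)] M :=
      κ.toLinearMap.toAddMonoidHom.comp (LinearEquiv.lTensor Γ(S', ⊤) σ).toLinearMap.toAddMonoidHom
    have hκ : Function.Bijective κ' := κ.bijective.comp (LinearEquiv.lTensor Γ(S', ⊤) σ).bijective
    have hκt : ∀ c y, κ' (c ⊗ₜ y) = q.appTop c ⊗ₜ[Γ(X, ⊤)] σ y := fun c y => by
      show κ ((LinearEquiv.lTensor Γ(S', ⊤) σ) (c ⊗ₜ y)) = _
      rw [LinearEquiv.lTensor_tmul]
      exact Algebra.IsPushout.cancelBaseChange_symm_tmul _ _ _ _ _ _ _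
    have key : ∀ z, Φ (κ' z) = mres G hZ (bsec hsq.flip le_top L V₀ z) := by
      intro z
      induction z using TensorProduct.induction_on with
      | zero => simp only [map_zero]
      | add a b ha hb => simp only [map_add, ha, hb]
      | tmul c y =>
        rw [bsec_tmul, mres_smul, mres_res', hκt, LinearMap.liftBaseChange_tmul, ← CommRingCat.comp_apply,
          Scheme.Hom.appLE_map, res']
        exact (congrArg₂ (fun (u : Γ(X', ⊤)) (v : Γ(G, ⊤)) => u • v)
          (ConcreteCategory.congr_hom (Scheme.Hom.app_eq_appLE (f := q) (U := ⊤)).symm c)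
          (M1.mres_id _ _ _)).symm
    refine (Function.Bijective.of_comp_iff _ hκ).1 ?_
    exact (congrArg Function.Bijective (funext key)).mpr hb
  let t : Γ(G, ⊤) := e.inv.app ⊤ (one ⊤)
  have ht : Twist.IsGen G ⊤ t := isGen_map_iso e.symm isGen_one
  have ht' : Function.Bijective (LinearMap.toSpanSingleton Γ(X', ⊤) Γ(G, ⊤) t) := by
    have := ht ⊤ le_rfl
    rwa [mres_id] at this
  obtain ⟨s, hs⟩ := exists_generator_of_baseChange
    ((LinearEquiv.ofBijective Φ hΦ).trans (LinearEquiv.ofBijective _ ht').symm)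
  obtain ⟨c, hc⟩ : ∃ c : Γ(X', ⊤), c • φ s = t := by
    obtain ⟨z, hz⟩ := hΦ.2 t
    obtain ⟨c, rfl⟩ := hs z
    exact ⟨c, hz⟩
  obtain ⟨u, hu⟩ := ht'.2 (φ s)
  change u • t = φ s at hu
  have hcu : c * u = 1 := ht'.1 (show (c * u) • t = (1 : Γ(X', ⊤)) • t by rw [mul_smul, hu, hc, one_smul])
  have hgen : Twist.IsGen G (r ⁻¹ᵁ ⊤) (M2.pullSec r L s) := by
    intro V hV
    have h1 : (M2.pullSec r L s : Γ(G, r ⁻¹ᵁ ⊤)) = (u : Γ(X', r ⁻¹ᵁ ⊤)) • (t : Γ(G, r ⁻¹ᵁ ⊤)) := hu.symm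
    have hunit : IsUnit (X'.presheaf.map (homOfLE hV).op (u : Γ(X', r ⁻¹ᵁ ⊤))) :=
      (IsUnit.of_mul_eq_one c (show u * c = 1 by rw [mul_comm, hcu])).map (X'.presheaf.map (homOfLE hV).op).hom
    rw [h1, mres_smul]
    simp only [smul_smul]
    exact (ht V hV).comp hunit.unit.mulRight.bijective
  have hdesc := isGen_of_pullback r hL hgen
  haveI : IsIso (secHom s) := isIso_of_gens _ fun x => ⟨⊤, one ⊤, trivial, isGen_one, by
    rw [secHom_app_one]; exact hdesc⟩
  exact ⟨(asIso (secHom s)).symm⟩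

end Groth.Agent.ParaFDesc27
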